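import Groth.Agent.Agf.H593.UnipRad
import Groth.Agent.Agf.H609.MaxTorImg
import Groth.Agent.Agf.H609.GrothFix
import Groth.Agent.Agf.H623.SurjBorel
import Groth.Agent.Agf.H624.GaCore
import Groth.Agent.Agf.H612.GalRed
import Groth.Agent.Sga3B.RG.GaHom
import Groth.Agent.Sga3B.RG.SsCrit989
import Groth.Agent.Sga3B.RG.NonComm
import Groth.Agent.Sga3B.RG.PbKB703

/-!
# Unipotent radicals, normal subgroups and quotients of reductive groups, on points

`K` algebraically closed, `A`, `C` finitely generated commutative Hopf algebras over `K`.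

* `eq_one_of_mem_borels`: a unipotent element of a connected reductive group lying in all Borel
  subgroups containing a given maximal torus is trivial;
* `mem_ker_of_mem_borels`: the same modulo the kernel of a surjective homomorphism with solvable
  connected kernel onto a reductive group;
* `isRedSub_of_normal`: closed normal subgroups of reductive groups are reductive;
* `eq_top_of_forall_torus_le`: a closed normal subgroup of a connected reductive group containing
  all tori is everything;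
* `le_map_unipRad`: the image of the unipotent radical under a surjective homomorphism contains
  every closed connected normal unipotent subgroup.
-/

set_option autoImplicit false

universe u

open WithConv TensorProduct Coalgebra
open Groth.Agent.Sga3B.RG Groth.Agent.Books
open Groth.Agent.Sga3B.Parab.BorelPts172 Groth.Agent.Sga3B.Parab.SolvPts172
open Groth.Agent.Agf.H593.UnipRad Groth.Agent.Agf.H593.QuotPt
open scoped LaurentPolynomial

namespace K501.RadPts

variable {K : Type u} [Field K] {A : Type u} [CommRing A] [HopfAlgebra K A]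
  {C : Type u} [CommRing C] [HopfAlgebra K C]

section Dyn

lemma Zsub_invCoch (lam : A →ₐc[K] K[T;T⁻¹]) : Zsub (invCoch lam) = Zsub lam := by
  ext g
  rw [mem_Zsub, mem_Zsub]
  constructor
  · intro h t
    have h1 := h t⁻¹
    rw [cochPt_invCoch, map_inv, inv_inv] at h1
    exact h1
  · intro h t
    have h1 := h t⁻¹
    rw [map_inv] at h1
    rw [cochPt_invCoch]
    exact h1

lemma cochIn_invCoch {lam : A →ₐc[K] K[T;T⁻¹]} {T : Subgroup (Pt K A)} (h : CochIn lam T) :
    CochIn (invCoch lam) T := by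
  intro t
  rw [cochPt_invCoch]
  exact inv_mem (h t)

variable [IsAlgClosed K]

/-- `P(λ) ∩ P(-λ) = Z(λ)`. -/
lemma mem_Zsub_of_mem (lam : A →ₐc[K] K[T;T⁻¹]) {g : Pt K A} (h1 : g ∈ Psub lam)
    (h2 : g ∈ Psub (invCoch lam)) : g ∈ Zsub lam := by
  have h3 := limPt_inv_mul_mem (invCoch lam) h2
  have h4 := limPt_mem_Zsub (invCoch lam) h2
  rw [Zsub_invCoch] at h4
  have h5 : (limPt (invCoch lam) g h2)⁻¹ * g ∈ Usub (invCoch lam) ⊓ Psub lam :=
    ⟨h3, (Psub lam).mul_mem ((Psub lam).inv_mem (Zsub_le_Psub lam h4)) h1⟩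
  rw [NC.Usub_inv_inf_Psub, Subgroup.mem_bot, inv_mul_eq_one] at h5
  rw [← h5]
  exact h4

variable [Algebra.FiniteType K A]

/-- In a connected reductive group a unipotent point lying in all Borel subgroups containing the
maximal torus `T` is trivial. -/
theorem eq_one_of_mem_borels [IsDomain A] (hred : IsRedPt K A) {T : Subgroup (Pt K A)}
    (hT : IsMaxTorusSub T) {g : Pt K A} (hg : IsUnip g)
    (h : ∀ B : Subgroup (Pt K A), IsBorelPt B → T ≤ B → g ∈ B) : g = 1 := by
  obtain ⟨lam, hlam, hZ⟩ := hT.1.exists_coch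
  have hTZ : Zsub lam = T := by rw [← hZ, K8.centralizer_eq hred hT]
  have hB1 : IsBorelPt (Psub lam) := PbKB703.kB K A hred T hT lam hlam hTZ.le
  have hB2 : IsBorelPt (Psub (invCoch lam)) := PbKB703.kB K A hred T hT (invCoch lam)
    (cochIn_invCoch hlam) (by rw [Zsub_invCoch]; exact hTZ.le)
  have h1 := h _ hB1 (by
    calc T = Zsub lam := hTZ.symm
      _ ≤ Psub lam := Zsub_le_Psub lam)
  have h2 := h _ hB2 (by
    calc T = Zsub lam := hTZ.symm
      _ = Zsub (invCoch lam) := (Zsub_invCoch lam).symm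
      _ ≤ Psub (invCoch lam) := Zsub_le_Psub (invCoch lam))
  have h3 := mem_Zsub_of_mem lam h1 h2
  rw [hTZ] at h3
  exact TrigTorus.eq_one_of_isTorusSub hT.1 h3 hg

/-- Let `φ` be a homomorphism of the connected group `G` onto a reductive group with closed
connected solvable kernel. A unipotent point of `G` lying in all Borel subgroups of `G` containing
the maximal torus `T` lies in the kernel. -/
theorem mem_ker_of_mem_borels [Algebra.FiniteType K C] [IsDomain A] [IsDomain C] (φ : C →ₐc[K] A)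
    (hs : Function.Surjective (Pt.map (K := K) φ)) (hk : IsCCS (Pt.map (K := K) φ).ker)
    (hred : IsRedPt K C) {T : Subgroup (Pt K A)} (hT : IsMaxTorusSub T) {g : Pt K A}
    (hg : IsUnip g) (h : ∀ B : Subgroup (Pt K A), IsBorelPt B → T ≤ B → g ∈ B) :
    g ∈ (Pt.map (K := K) φ).ker := by
  rw [MonoidHom.mem_ker]
  have hT' := Groth.Agent.Agf.H609.MaxTorImg.isMaxTorusSub_map φ hs hT
  refine eq_one_of_mem_borels hred hT' (hg.map φ) fun B' hB' hTB' => ?_
  obtain ⟨B, hB, hBB'⟩ := Groth.Agent.Agf.H623.SurjBorel.exists_isBorelPt_map_eq φ hB'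
    (by rw [MonoidHom.range_eq_top.2 hs]; exact le_top)
  have hkB : (Pt.map (K := K) φ).ker ≤ B := le_of_isBorelPt_of_normal hB hk inferInstance
  have hTB : T ≤ B := by
    intro t ht
    have h1 : Pt.map φ t ∈ B.map (Pt.map φ) := by
      rw [hBB']
      exact hTB' ⟨t, ht, rfl⟩
    obtain ⟨b, hb, hbt⟩ := h1
    have h2 : b⁻¹ * t ∈ (Pt.map (K := K) φ).ker := by
      rw [MonoidHom.mem_ker, map_mul, map_inv, hbt, inv_mul_cancel]
    have h3 := B.mul_mem hb (hkB h2)
    rwa [mul_inv_cancel_left] at h3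
  rw [← hBB']
  exact ⟨g, h B hB hTB, rfl⟩

end Dyn

section Normal

/-- Conjugation by an element preserving `H` preserves the closure of `H`. -/
lemma conj_mem_clSub [IsAlgClosed K] [Algebra.FiniteType K A] {H : Subgroup (Pt K A)} {p : Pt K A} (h : ∀ x ∈ H, p * x * p⁻¹ ∈ H)
    {x : Pt K A} (hx : x ∈ clSub H) : p * x * p⁻¹ ∈ clSub H := by
  let H' : Subgroup (Pt K A) := (clSub H).map (MulAut.conj p⁻¹).toMonoidHom
  have hH' : IsCl (H' : Set (Pt K A)) := by
    have h1 := (isCl_clSub H).conj p⁻¹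
    have h2 : (H' : Set (Pt K A)) = (fun x => p⁻¹ * x * p⁻¹⁻¹) '' (clSub H : Set (Pt K A)) := rfl
    rw [h2]
    exact h1
  have hle : H ≤ H' := fun y hy => ⟨p * y * p⁻¹, le_clSub _ (h y hy), by
    change p⁻¹ * (p * y * p⁻¹) * p⁻¹⁻¹ = y
    group⟩
  obtain ⟨y, hy, hyx⟩ := clSub_le hle hH' hx
  change p⁻¹ * y * p⁻¹⁻¹ = x at hyx
  have : p * x * p⁻¹ = y := by
    rw [← hyx]
    group
  rw [this]
  exact hy

variable [IsAlgClosed K] [Algebra.FiniteType K A]

lemma isCl_map_conj {U : Subgroup (Pt K A)} (h : IsCl (U : Set (Pt K A))) (g : Pt K A) :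
    IsCl ((U.map (MulAut.conj g).toMonoidHom : Subgroup (Pt K A)) : Set (Pt K A)) :=
  h.conj g

lemma isConn_map_conj {U : Subgroup (Pt K A)}
    (h : IsConn (U : Set (Pt K A))) (g : Pt K A) :
    IsConn ((U.map (MulAut.conj g).toMonoidHom : Subgroup (Pt K A)) : Set (Pt K A)) :=
  h.conj g

omit [IsAlgClosed K] [Algebra.FiniteType K A] in
/-- Conjugates: `U` normalised by `P`, `P` normal, then `g U g⁻¹` is normalised by `P`. -/
lemma le_normalizer_conj {P U : Subgroup (Pt K A)} (hn : P.Normal)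
    (h : P ≤ Subgroup.normalizer (U : Set (Pt K A))) (g : Pt K A) :
    P ≤ Subgroup.normalizer ((U.map (MulAut.conj g).toMonoidHom : Subgroup (Pt K A)) :
      Set (Pt K A)) := by
  intro p hp
  have hp' : g⁻¹ * p * g ∈ P := by
    have := hn.conj_mem p hp g⁻¹
    rwa [inv_inv] at this
  have h1 := Subgroup.mem_normalizer_iff.1 (h hp')
  rw [Subgroup.mem_normalizer_iff]
  intro x
  constructor
  · rintro ⟨y, hy, rfl⟩
    refine ⟨g⁻¹ * p * g * y * (g⁻¹ * p * g)⁻¹, (h1 y).1 hy, ?_⟩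
    change g * (g⁻¹ * p * g * y * (g⁻¹ * p * g)⁻¹) * g⁻¹ = p * (g * y * g⁻¹) * p⁻¹
    group
  · rintro ⟨y, hy, hyx⟩
    change g * y * g⁻¹ = p * x * p⁻¹ at hyx
    refine ⟨g⁻¹ * x * g, (h1 _).2 ?_, ?_⟩
    · have : g⁻¹ * p * g * (g⁻¹ * x * g) * (g⁻¹ * p * g)⁻¹ = y := by
        have h2 : y = g⁻¹ * (g * y * g⁻¹) * g := by group
        rw [h2, hyx]
        group
      rw [this]
      exact hy
    · change g * (g⁻¹ * x * g) * g⁻¹ = x
      group

/-- The closed connected unipotent subgroups of the closed normal subgroup `P` normalised by `P`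
have a largest element, which is normal in the whole group. -/
theorem exists_largest [IsReduced A] {P : Subgroup (Pt K A)} (hcl : IsCl (P : Set (Pt K A)))
    (hn : P.Normal) :
    ∃ N : Subgroup (Pt K A), N.Normal ∧ N ≤ P ∧ IsCl (N : Set (Pt K A)) ∧
      IsConn (N : Set (Pt K A)) ∧ (∀ g ∈ N, IsUnip g) ∧
      ∀ M : Subgroup (Pt K A), M ≤ P → P ≤ Subgroup.normalizer (M : Set (Pt K A)) →
        IsCl (M : Set (Pt K A)) → IsConn (M : Set (Pt K A)) → (∀ g ∈ M, IsUnip g) → M ≤ N := by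
  let Q : Subgroup (Pt K A) → Prop := fun M => M ≤ P ∧
    P ≤ Subgroup.normalizer (M : Set (Pt K A)) ∧ IsCl (M : Set (Pt K A)) ∧
      IsConn (M : Set (Pt K A)) ∧ ∀ g ∈ M, IsUnip g
  obtain ⟨N, hN, hmax⟩ := exists_maximal_isConn Q ⟨⊥, bot_le, by
      rw [Subgroup.normalizer_eq_top_iff.2 inferInstance]; exact le_top, by
      rw [Subgroup.coe_bot]; exact isCl_singleton 1, isConn_bot, by
      intro g hg
      rw [Subgroup.mem_bot.1 hg]
      exact isUnip_one⟩ (fun M hM => ⟨hM.2.2.1, hM.2.2.2.1⟩)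
  have key : ∀ M, Q M → M ≤ N := by
    intro M hM
    have hNc : IsCCS N := ⟨hN.2.2.1, hN.2.2.2.1, isSolvable_of_isUnip hN.2.2.2.2⟩
    have hMc : IsCCS M := ⟨hM.2.2.1, hM.2.2.2.1, isSolvable_of_isUnip hM.2.2.2.2⟩
    have hNM : N ≤ Subgroup.normalizer (M : Set (Pt K A)) := hN.1.trans hM.2.1
    have hMN : M ≤ Subgroup.normalizer (N : Set (Pt K A)) := hM.1.trans hN.2.1
    have hL := hNc.sup hMc hNM
    have h1 : Q (clSub (N ⊔ M)) := by
      refine ⟨clSub_le (sup_le hN.1 hM.1) hcl, ?_, hL.isCl, hL.isConn,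
        isUnip_clSub (isUnip_sup hMN hN.2.2.2.2 hM.2.2.2.2)⟩
      intro p hp
      have hsup : ∀ q ∈ P, ∀ x ∈ N ⊔ M, q * x * q⁻¹ ∈ N ⊔ M := by
        intro q hq x hx
        have hle : N ⊔ M ≤ (N ⊔ M).comap (MulAut.conj q).toMonoidHom := by
          rw [sup_le_iff]
          constructor
          · intro y hy
            exact (le_sup_left : N ≤ N ⊔ M) ((Subgroup.mem_normalizer_iff.1 (hN.2.1 hq) y).1 hy)
          · intro y hy
            exact (le_sup_right : M ≤ N ⊔ M) ((Subgroup.mem_normalizer_iff.1 (hM.2.1 hq) y).1 hy)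
        exact hle hx
      rw [Subgroup.mem_normalizer_iff]
      intro x
      constructor
      · exact fun hx => conj_mem_clSub (hsup p hp) hx
      · intro hx
        have h2 := conj_mem_clSub (hsup p⁻¹ (inv_mem hp)) hx
        have h3 : p⁻¹ * (p * x * p⁻¹) * p⁻¹⁻¹ = x := by group
        rwa [h3] at h2
    have h2 := hmax _ h1 (le_sup_left.trans (le_clSub _))
    rw [← h2]
    exact le_sup_right.trans (le_clSub _)
  refine ⟨N, ⟨?_⟩, hN.1, hN.2.2.1, hN.2.2.2.1, hN.2.2.2.2, fun M h1 h2 h3 h4 h5 =>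
    key M ⟨h1, h2, h3, h4, h5⟩⟩
  intro x hx g
  have h1 : Q (N.map (MulAut.conj g).toMonoidHom) := by
    refine ⟨?_, le_normalizer_conj hn hN.2.1 g, isCl_map_conj hN.2.2.1 g,
      isConn_map_conj hN.2.2.2.1 g, ?_⟩
    · rintro _ ⟨y, hy, rfl⟩
      exact hn.conj_mem y (hN.1 hy) g
    · rintro _ ⟨y, hy, rfl⟩
      exact (hN.2.2.2.2 y hy).conj g
  exact key _ h1 ⟨x, hx, rfl⟩

/-- Closed normal subgroups of reductive groups are reductive. -/
theorem isRedSub_of_normal [IsReduced A] (hred : IsRedPt K A) {P : Subgroup (Pt K A)}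
    (hcl : IsCl (P : Set (Pt K A))) (hn : P.Normal) : IsRedSub P := by
  obtain ⟨N, hNn, hNP, hNcl, hNc, hNu, hmax⟩ := exists_largest hcl hn
  have hN := hred N hNn hNcl hNc hNu
  intro M h1 h2 h3 h4 h5
  have h6 := hmax M h1 h2 h3 h4 h5
  rw [hN] at h6
  exact eq_bot_iff.2 h6

/-- A closed normal subgroup of a connected reductive group containing all tori is everything. -/
theorem eq_top_of_forall_torus_le [IsDomain A] (hred : IsRedPt K A) {J : Subgroup (Pt K A)}
    (hcl : IsCl (J : Set (Pt K A))) (hn : J.Normal)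
    (h : ∀ S : Subgroup (Pt K A), IsTorusSub S → S ≤ J) : J = ⊤ := by
  obtain ⟨C, _, _, φ, hC, hinj, hs, hker⟩ := exists_quotient J hcl hn
  have hdomC : IsDomain C := hinj.isDomain (φ : C →+* A)
  have hu : ∀ g ∈ (⊤ : Subgroup (Pt K C)), IsUnip g := by
    refine SsCrit989.isUnip_of_forall_isTorusSub (by rw [Subgroup.coe_top]; exact isCl_univ)
      (by rw [Subgroup.coe_top]; exact isConn_univ) ?_
    intro R hR _
    obtain ⟨S, S', -, hS', -, hmap⟩ :=
      Groth.Agent.Agf.H609.GrothFix.exists_map_eq_of_surjective φ hs hR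
    rw [← hmap, eq_bot_iff]
    rintro _ ⟨x, hx, rfl⟩
    have := h S' hS' hx
    rw [← hker] at this
    exact this
  obtain ⟨T, hT⟩ := exists_isMaxTorusSub K A
  by_contra hne
  have hCne : (⊤ : Subgroup (Pt K C)) ≠ ⊥ := by
    intro hbot
    apply hne
    rw [eq_top_iff, ← hker]
    intro g _
    rw [MonoidHom.mem_ker]
    have : Pt.map φ g ∈ (⊤ : Subgroup (Pt K C)) := Subgroup.mem_top _
    rw [hbot] at this
    exact this
  obtain ⟨f, hf, hf0⟩ := Groth.Agent.Agf.H624.GaCore.exists_add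
    (N := (⊤ : Subgroup (Pt K C))) (by rw [Subgroup.coe_top]; exact isCl_univ) hu hCne
  have hadd : ∀ g g' : Pt K A, (g * g') (φ f) = g (φ f) + g' (φ f) := by
    intro g g'
    have := hf (Pt.map φ g) (Subgroup.mem_top _) (Pt.map φ g') (Subgroup.mem_top _)
    rw [← map_mul] at this
    exact this
  have h0 : φ f = 0 := GaHom.eq_zero_of_additive hadd hT.1 (K8.centralizer_eq hred hT)
  apply hf0
  intro g _
  have hf00 : f = 0 := hinj (by rw [h0, map_zero])
  rw [hf00]
  exact map_zero g.ofConv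

/-- Relative form of `eq_top_of_forall_torus_le`. -/
theorem eq_of_forall_torus_le [IsReduced A] {P J : Subgroup (Pt K A)}
    (hPcl : IsCl (P : Set (Pt K A))) (hPc : IsConn (P : Set (Pt K A))) (hPred : IsRedSub P)
    (hJP : J ≤ P) (hJcl : IsCl (J : Set (Pt K A)))
    (hJn : P ≤ Subgroup.normalizer (J : Set (Pt K A)))
    (h : ∀ S : Subgroup (Pt K A), IsTorusSub S → S ≤ P → S ≤ J) : J = P := by
  have hprime : (vanIdeal (P : Set (Pt K A))).IsPrime := hPc
  let q : A →ₐc[K] A ⧸ vanIdeal (P : Set (Pt K A)) := Bialgebra.Quotient.mkBialgHom (R := K) _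
  have hq : Function.Surjective q := Ideal.Quotient.mk_surjective
  have hrange : (Pt.map q).range = P := range_quotMap_vanIdeal (K := K) P hPcl
  have hred : IsRedPt K (A ⧸ vanIdeal (P : Set (Pt K A))) := (isRedSub_iff hPcl).1 hPred
  have hJq : (J.comap (Pt.map q)).map (Pt.map q) = J := map_comap_of_le (hJP.trans hrange.ge)
  have h1 : J.comap (Pt.map q) = ⊤ := by
    refine eq_top_of_forall_torus_le hred (hJcl.preimage_map q) ⟨fun x hx g => ?_⟩ fun S hS => ?_
    · rw [Subgroup.mem_comap, map_mul, map_mul, map_inv]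
      exact (Subgroup.mem_normalizer_iff.1 (hJn (hrange.le ⟨g, rfl⟩)) _).1 hx
    · rw [← Subgroup.map_le_iff_le_comap]
      refine h _ ((isTorusSub_map_iff hq).2 hS) (le_trans ?_ hrange.le)
      rintro _ ⟨x, -, rfl⟩
      exact ⟨x, rfl⟩
  rw [← hJq, h1, ← MonoidHom.range_eq_map, hrange]

/-- **The image of the unipotent radical under a surjective homomorphism** contains every closed
connected normal unipotent subgroup. -/
theorem le_map_unipRad [IsDomain A] [Algebra.FiniteType K C] [IsReduced C] (φ : C →ₐc[K] A)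
    (hs : Function.Surjective (Pt.map (K := K) φ)) {N : Subgroup (Pt K A)} (hNn : N.Normal)
    (hNcl : IsCl (N : Set (Pt K A))) (hNu : ∀ g ∈ N, IsUnip g)
    (hNmax : ∀ M : Subgroup (Pt K A), (M.Normal ∧ IsCl (M : Set (Pt K A)) ∧
      IsConn (M : Set (Pt K A)) ∧ ∀ g ∈ M, IsUnip g) → M ≤ N)
    {M : Subgroup (Pt K C)} (hMn : M.Normal) (hMcl : IsCl (M : Set (Pt K C)))
    (hMc : IsConn (M : Set (Pt K C))) (hMu : ∀ g ∈ M, IsUnip g) :
    M ≤ N.map (Pt.map φ) := by
  obtain ⟨D, _, _, ψ, hD, hinj, hψs, hker⟩ := exists_quotient N hNcl hNn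
  have hdomD : IsDomain D := hinj.isDomain (ψ : D →+* A)
  have hredD : IsRedPt K D := Groth.Agent.Agf.H612.GalRed.isRedPt_of_ker ψ hψs
    (by rw [hker]; exact hNu) (by rw [hker]; exact hNmax)
  have hHcl : IsCl ((M.comap (Pt.map φ) : Subgroup (Pt K A)) : Set (Pt K A)) :=
    hMcl.preimage_map φ
  have hHn : (M.comap (Pt.map φ)).Normal := hMn.comap _
  let P := idComp (M.comap (Pt.map φ))
  have hPn : P.Normal := normal_idComp hHcl hHn
  have hPcl : IsCl (P : Set (Pt K A)) := isCl_idComp _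
  have hPc : IsConn (P : Set (Pt K A)) := isConn_idComp _
  have hPmap : P.map (Pt.map φ) = M := by
    have h1 : (M.comap (Pt.map φ)).map (Pt.map φ) = M :=
      Subgroup.map_comap_eq_self_of_surjective hs M
    have h2 := map_idComp φ hHcl (by rw [h1]; exact hMc)
    rw [h1] at h2
    exact h2
  have hfNn : (N.map (Pt.map φ)).Normal := hNn.map _ hs
  let J : Subgroup (Pt K A) := P ⊓ (N.map (Pt.map φ)).comap (Pt.map φ)
  have hJcl : IsCl (J : Set (Pt K A)) := hPcl.inter ((isCl_map φ hNcl).preimage_map φ)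
  have hJn : J.Normal := by
    have := hfNn.comap (Pt.map φ)
    exact Subgroup.normal_inf_normal P _
  have hPbn : (P.map (Pt.map ψ)).Normal := hPn.map _ hψs
  have hPbcl : IsCl ((P.map (Pt.map ψ) : Subgroup (Pt K D)) : Set (Pt K D)) := isCl_map ψ hPcl
  have hPbc : IsConn ((P.map (Pt.map ψ) : Subgroup (Pt K D)) : Set (Pt K D)) := hPc.image_map ψ
  have hJbn : (J.map (Pt.map ψ)).Normal := hJn.map _ hψs
  have key : J.map (Pt.map ψ) = P.map (Pt.map ψ) := by
    refine eq_of_forall_torus_le hPbcl hPbc (isRedSub_of_normal hredD hPbcl hPbn)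
      (Subgroup.map_mono inf_le_left) (isCl_map ψ hJcl) ?_ ?_
    · rw [Subgroup.normalizer_eq_top_iff.2 hJbn]
      exact le_top
    · intro S hS hSP
      obtain ⟨_, S', -, hS', -, hmap⟩ :=
        Groth.Agent.Agf.H609.GrothFix.exists_map_eq_of_surjective ψ hψs hS
      have hu : ∀ g ∈ M ⊔ N.map (Pt.map φ), IsUnip g := by
        refine isUnip_sup ?_ hMu ?_
        · rw [Subgroup.normalizer_eq_top_iff.2 hMn]
          exact le_top
        · rintro _ ⟨x, hx, rfl⟩
          exact (hNu x hx).map φ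
      have hfS := Groth.Agent.Agf.H609.MaxTorImg.isTorusSub_map φ hS'
      rw [← hmap]
      rintro _ ⟨s, hs', rfl⟩
      obtain ⟨p, hp, hps⟩ := hSP (hmap.le ⟨s, hs', rfl⟩)
      have hn : p⁻¹ * s ∈ N := by
        rw [← hker, MonoidHom.mem_ker, map_mul, map_inv, hps, inv_mul_cancel]
      have h1 : Pt.map φ s = Pt.map φ p * Pt.map φ (p⁻¹ * s) := by
        rw [← map_mul, mul_inv_cancel_left]
      have h2 : Pt.map φ s ∈ M ⊔ N.map (Pt.map φ) := by
        rw [h1]
        exact Subgroup.mul_mem_sup (hPmap.le ⟨p, hp, rfl⟩) ⟨_, hn, rfl⟩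
      have h3 : Pt.map φ s = 1 := TrigTorus.eq_one_of_isTorusSub hfS ⟨s, hs', rfl⟩ (hu _ h2)
      rw [h3] at h1
      refine ⟨p, ⟨hp, ?_⟩, hps⟩
      refine ⟨(p⁻¹ * s)⁻¹, N.inv_mem hn, ?_⟩
      rw [map_inv]
      exact inv_eq_of_mul_eq_one_left h1.symm
  rw [← hPmap]
  rintro _ ⟨p, hp, rfl⟩
  obtain ⟨j, hj, hjp⟩ := key.ge ⟨p, hp, rfl⟩
  obtain ⟨n, hn, hnj⟩ := hj.2
  have hn' : j⁻¹ * p ∈ N := by
    rw [← hker, MonoidHom.mem_ker, map_mul, map_inv, hjp, inv_mul_cancel]
  refine ⟨n * (j⁻¹ * p), N.mul_mem hn hn', ?_⟩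
  rw [map_mul, hnj, ← map_mul, mul_inv_cancel_left]

end Normal

end K501.RadPts
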