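import Groth.Prelude.Def_Par
import Groth.Agent.AGF.K501.RadPts
import Groth.Agent.Agf.H614.AlgDict
import Groth.Agent.Sga3B.Parab.GeomBC147
import Groth.Agent.Sga3B.RadOpen.PtTorus
import Groth.Agent.Sga3B.RG.BrRed2
import Groth.Agent.Sga3B.RG.BrMax

/-!
# Unipotent radicals over an algebraically closed field: schemes and points

`K` algebraically closed, `G` a smooth affine group over `K` with `e : G ≅ SpecOver K A`.

* `exists_sub`: a closed subgroup of `Pt K A` comes from a smooth closed subgroup scheme of `G`;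
* `UnipRad`: the content of `Par.IsUnipotentRadical` on points: the group of points of a unipotent
  radical is the largest closed connected normal unipotent subgroup;
* `isUnipotentRadical_of_pts`, `exists_isUnipotentRadical`.
-/

set_option autoImplicit false

universe u

open CategoryTheory MonoidalCategory CartesianMonoidalCategory MonObj GrpObj AlgebraicGeometry Limits
open Groth.Agent.Books.AffBridge Groth.Agent.Books.AffBridge2

namespace K501.RadSch

open Groth.Agent.Sga3B Groth.Agent.Sga3B.RG Groth.Agent.Sga3B.RG.BrPts Groth.Agent.Sga3B.RG.BrTorus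
open Groth.Agent.Books.AlgPtsGrp Groth.Agent.Books.AlgPtsIrred Groth.Agent.Books.AlgPtsSmooth
open Groth.Agent.Sga3B.Parab.BorelPts172 Groth.Agent.Agf.H614.AlgDict

variable {K : Type u} [Field K] [IsAlgClosed K]

section fib

/-- The fibre condition in `Par.IsUnipotentRadical` over an algebraically closed field. -/
theorem fib_iff (U : Over (Spec (CommRingCat.of K))) [GrpObj U] :
    (∀ s : Spec (CommRingCat.of K), ConnectedSpace (Red.geomFibre s U).left ∧
      Red.HasNoSubtorus (AlgebraicClosure ((Spec (CommRingCat.of K)).residueField s))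
        (Red.geomFibre s U)) ↔ ConnectedSpace U.left ∧ Red.HasNoSubtorus K U := by
  constructor
  · intro h
    have s : Spec (CommRingCat.of K) := IsLocalRing.closedPoint K
    have h1 := BrMax.isIso_geomPt s
    exact ⟨(Parab.GeomBC147.connectedSpace_bc (Red.geomPt s) U).1 (h s).1,
      Parab.GeomBC147.hasNoSubtorus_of_bc (Red.geomPt s) (h s).2⟩
  · intro h s
    have h1 := BrMax.isIso_geomPt s
    exact ⟨(Parab.GeomBC147.connectedSpace_bc (Red.geomPt s) U).2 h.1,
      Parab.GeomBC147.hasNoSubtorus_bc (Red.geomPt s) h.2⟩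

end fib

variable {A : Type u} [CommRing A] [HopfAlgebra K A] [Algebra.FiniteType K A]
variable {G : Over (Spec (CommRingCat.of K))} [GrpObj G] (e : G ≅ SpecOver K A) [IsMonHom e.hom]

/-- A closed subgroup of the group of points comes from a smooth closed subgroup scheme. -/
theorem exists_sub {N : Subgroup (Pt K A)} (hcl : IsCl (N : Set (Pt K A))) :
    ∃ (H : Over (Spec (CommRingCat.of K))) (_ : GrpObj H) (i : H ⟶ G) (_ : IsMonHom i),
      IsClosedImmersion i.left ∧ Smooth H.hom ∧ ptsSub (i ≫ e.hom) = N ∧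
      (IsConn (N : Set (Pt K A)) → ConnectedSpace H.left) := by
  have hred : _root_.IsReduced (A ⧸ vanIdeal (N : Set (Pt K A))) :=
    (Ideal.isRadical_iff_quotient_reduced _).1 (vanIdeal_isRadical _)
  have hsm : Smooth (SpecOver K (A ⧸ vanIdeal (N : Set (Pt K A)))).hom :=
    (smooth_iff (K := K) _).2 hred
  have hpts : ptsSub (incl K (vanIdeal (N : Set (Pt K A)))) = N := by
    apply SetLike.coe_injective
    rw [ptsSub_incl, hcl.eq]
  have hinv : IsMonHom e.inv := inferInstance
  refine ⟨SpecOver K (A ⧸ vanIdeal (N : Set (Pt K A))), inferInstance,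
    incl K (vanIdeal (N : Set (Pt K A))) ≫ e.inv, inferInstance, ?_, hsm, ?_, ?_⟩
  · rw [Over.comp_left]
    infer_instance
  · have h1 : (incl K (vanIdeal (N : Set (Pt K A))) ≫ e.inv) ≫ e.hom =
        incl K (vanIdeal (N : Set (Pt K A))) := by
      rw [Category.assoc, Iso.inv_hom_id, Category.comp_id]
    have h2 : ∀ (i : SpecOver K (A ⧸ vanIdeal (N : Set (Pt K A))) ⟶ SpecOver K A) [IsMonHom i],
        i = incl K (vanIdeal (N : Set (Pt K A))) → ptsSub i = N := by
      rintro i hi rfl
      exact hpts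
    exact h2 _ h1
  · intro hc
    have hd : IsDomain (A ⧸ vanIdeal (N : Set (Pt K A))) :=
      (Ideal.Quotient.isDomain_iff_prime _).2 hc
    exact ((isDomain_iff (K := K) _).2 hd).2

/-- Normality of a smooth closed subgroup, on points. -/
theorem isNormalHom_iff [Smooth G.hom] {H : Over (Spec (CommRingCat.of K))} [GrpObj H] (i : H ⟶ G)
    [IsMonHom i] [IsClosedImmersion i.left] [Smooth H.hom] :
    AlgGrp.IsNormalHom i ↔ (ptsSub (i ≫ e.hom)).Normal := by
  have hsm : Smooth (SpecOver K A).hom := smooth_of_iso e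
  have hred : _root_.IsReduced A := (smooth_iff (K := K) A).1 hsm
  constructor
  · intro h
    exact normal_ptsSub _ (BrRed2.isNormalHom_comp_iso i e h)
  · intro h
    have h1 := isNormalHom_of_normal (i ≫ e.hom) h
    have hinv : IsMonHom e.inv := inferInstance
    have hinv' : IsMonHom e.symm.hom := hinv
    have h2 := BrRed2.isNormalHom_comp_iso (i ≫ e.hom) e.symm h1
    rwa [Category.assoc, Iso.symm_hom, Iso.hom_inv_id, Category.comp_id] at h2

/-- Absence of subtori in a smooth connected closed subgroup, on points. -/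
theorem hasNoSubtorus_iff {H : Over (Spec (CommRingCat.of K))} [GrpObj H] (i : H ⟶ G)
    [IsMonHom i] [IsClosedImmersion i.left] [Smooth H.hom] [ConnectedSpace H.left] :
    Red.HasNoSubtorus K H ↔ ∀ g ∈ ptsSub (i ≫ e.hom), IsUnip g := by
  have hm : Mono (i ≫ e.hom) := mono_of_isClosedImmersion _
  exact ⟨fun h => Groth.Agent.Sga3B.RadOpen.isUnip_of_hasNoSubtorus (i ≫ e.hom) h,
    fun h => BrRed.hasNoSubtorus_of_unip (i ≫ e.hom) h⟩

/-- The largest closed connected normal unipotent subgroup of the group of points. -/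
structure IsUR (N : Subgroup (Pt K A)) : Prop where
  normal : N.Normal
  isCl : IsCl (N : Set (Pt K A))
  isConn : IsConn (N : Set (Pt K A))
  isUnip : ∀ g ∈ N, IsUnip g
  max : ∀ M : Subgroup (Pt K A), (M.Normal ∧ IsCl (M : Set (Pt K A)) ∧
      IsConn (M : Set (Pt K A)) ∧ ∀ g ∈ M, IsUnip g) → M ≤ N

/-- **The points of a unipotent radical.** -/
theorem isUR_ptsSub [Smooth G.hom] {U : Over (Spec (CommRingCat.of K))} [GrpObj U] {u : U ⟶ G}
    [IsMonHom u] (hU : Par.IsUnipotentRadical u) : IsUR (ptsSub (u ≫ e.hom)) := by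
  obtain ⟨-, h2, h3, h4, h5, h6, h7⟩ := hU
  obtain ⟨h8, h9⟩ := (fib_iff U).1 h6
  refine ⟨(isNormalHom_iff e u).1 h3, (exists_iso_vanIdeal (u ≫ e.hom)).1,
    isConn_ptsSub (u ≫ e.hom), (hasNoSubtorus_iff e u).1 h9, ?_⟩
  rintro M ⟨hM1, hM2, hM3, hM4⟩
  obtain ⟨H, _, i, hi, hcl, hsm, hpts, hconn⟩ := exists_sub e hM2
  have hc := hconn hM3
  have hft : LocallyOfFiniteType H.hom := inferInstance
  have haff : IsAffineHom (SpecOver K A).hom :=
    inferInstanceAs (IsAffineHom (Spec.map (CommRingCat.ofHom (algebraMap K A))))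
  have hqc : QuasiCompact H.hom := by
    have h10 : (i ≫ e.hom).left ≫ (SpecOver K A).hom = H.hom := Over.w (i ≫ e.hom)
    rw [← h10]
    infer_instance
  obtain ⟨f, hf⟩ := h7 H i hcl ((isNormalHom_iff e i).2 (by rw [hpts]; exact hM1)) hsm hqc
    ((fib_iff H).2 ⟨hc, (hasNoSubtorus_iff e i).2 (by rw [hpts]; exact hM4)⟩)
  rw [← hpts]
  exact ptsSub_le_of_factor e i u f hf

omit [Algebra.FiniteType K A] [GrpObj G] [IsMonHom e.hom] [IsAlgClosed K] in
include e in
lemma quasiCompact_of_closed {H : Over (Spec (CommRingCat.of K))} (i : H ⟶ G)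
    [IsClosedImmersion i.left] : QuasiCompact H.hom := by
  have haff : IsAffineHom (SpecOver K A).hom :=
    inferInstanceAs (IsAffineHom (Spec.map (CommRingCat.ofHom (algebraMap K A))))
  have h10 : (i ≫ e.hom).left ≫ (SpecOver K A).hom = H.hom := Over.w (i ≫ e.hom)
  have h11 : IsClosedImmersion (i ≫ e.hom).left := by
    rw [Over.comp_left]
    infer_instance
  rw [← h10]
  infer_instance

/-- A smooth closed subgroup whose points are the unipotent radical is a unipotent radical. -/
theorem isUnipotentRadical_of_pts [Smooth G.hom] {U : Over (Spec (CommRingCat.of K))} [GrpObj U]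
    {u : U ⟶ G} [IsMonHom u] [IsClosedImmersion u.left] [Smooth U.hom]
    (hc : ConnectedSpace U.left) (h : IsUR (ptsSub (u ≫ e.hom))) : Par.IsUnipotentRadical u := by
  refine ⟨inferInstance, inferInstance, (isNormalHom_iff e u).2 h.normal, inferInstance,
    quasiCompact_of_closed e u,
    (fib_iff U).2 ⟨hc, (hasNoSubtorus_iff e u).2 h.isUnip⟩, ?_⟩
  intro U' _ u' _ hcl hn hs _ hf
  obtain ⟨h8, h9⟩ := (fib_iff U').1 hf
  refine exists_factor_of_ptsSub_le e u' u (h.max _ ⟨(isNormalHom_iff e u').1 hn,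
    (exists_iso_vanIdeal (u' ≫ e.hom)).1, isConn_ptsSub (u' ≫ e.hom),
    (hasNoSubtorus_iff e u').1 h9⟩)

variable (K A) in
/-- The group of points has a largest closed connected normal unipotent subgroup. -/
theorem exists_isUR [_root_.IsReduced A] : ∃ N : Subgroup (Pt K A), IsUR N := by
  obtain ⟨N, h1, -, h3, h4, h5, h6⟩ := RadPts.exists_largest (K := K) (A := A)
    (P := (⊤ : Subgroup (Pt K A))) (by rw [Subgroup.coe_top]; exact isCl_univ) inferInstance
  refine ⟨N, h1, h3, h4, h5, ?_⟩
  rintro M ⟨m1, m2, m3, m4⟩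
  exact h6 M le_top (by rw [Subgroup.normalizer_eq_top_iff.2 m1]) m2 m3 m4

/-- **Existence of the unipotent radical** of a smooth affine group over an algebraically closed
field. -/
theorem exists_isUnipotentRadical (G : Over (Spec (CommRingCat.of K))) [GrpObj G] [IsAffine G.left]
    [Smooth G.hom] : ∃ (U : Over (Spec (CommRingCat.of K))) (_ : GrpObj U) (u : U ⟶ G),
      Par.IsUnipotentRadical u := by
  obtain ⟨A, _, _, e, he, hft, hred⟩ := Groth.Agent.Agf.H614.FieldGlue.exists_hopf_reduced G
  obtain ⟨N, hN⟩ := exists_isUR K A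
  obtain ⟨U, _, u, hu, hcl, hsm, hpts, hconn⟩ := exists_sub e hN.isCl
  refine ⟨U, inferInstance, u, isUnipotentRadical_of_pts e (hconn hN.isConn) ?_⟩
  rw [hpts]
  exact hN

end K501.RadSch
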