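import Groth.Agent.Agf.H604.BcSub
import Groth.Agent.Sga3B.RedBcAny636
import Groth.Agent.Sga3B.Par.DynDesc383
import Groth.Agent.Sga3B.RG.CentSelf2
import Groth.Agent.Agf.H603.DenseField
import Groth.Agent.Agf.H614.AlgDict

/-!
# Groups over a field `k` in terms of their points over an algebraically closed extension `K`

* `gmPts_conjBy`: the points of a conjugated subgroup;
* `gmPts_le_of_factor`, `exists_factor_of_gmPts_le`;
* `eq_zero_of_extPt`, `eq_univ_of_extPt`: density of `G(k)` in `G(K)` for `G` reductive and `k` infinite.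
-/

set_option autoImplicit false
set_option linter.unusedSectionVars false

universe u

open CategoryTheory MonoidalCategory CartesianMonoidalCategory MonObj GrpObj AlgebraicGeometry Limits
open Groth.Agent.Books.AffBridge Groth.Agent.Books.AffBridge2
open TensorProduct WithConv
open Groth.Agent.Sga3B Groth.Agent.Sga3B.RG Groth.Agent.Sga3B.RG.BrPts Groth.Agent.Sga3B.RootBridge989
  Groth.Agent.Sga3B.RG.BcPt Groth.Agent.Sga3B.Parab.BorelPts172
open Groth.Agent.Agf.H604.BcSub Groth.Agent.Agf.H582.ConjDict

namespace K501.BcPts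

variable {k K : Type u} [Field k] [Field K] [Algebra k K] {A : Type u} [CommRing A]
  [HopfAlgebra k A] {G H : Over (Spec (CommRingCat.of k))} [GrpObj G] [GrpObj H]

/-- A separably closed field is infinite. -/
theorem infinite_of_isSepClosed (k : Type u) [Field k] [IsSepClosed k] : Infinite k := by
  by_contra hcon
  rw [not_infinite_iff_finite] at hcon
  have h1 : IsAlgClosed k := inferInstance
  exact not_finite k

/-- The points of a closed subgroup scheme form a closed subgroup. -/
theorem isCl_ptsSub {B : Type u} [CommRing B] [HopfAlgebra K B]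
    {N : Over (Spec (CommRingCat.of K))} [GrpObj N] (i : N ⟶ SpecOver K B) [IsMonHom i]
    [IsClosedImmersion i.left] : IsCl (ptsSub i : Set (Pt K B)) := by
  obtain ⟨I, hI, e, he, hei⟩ := exists_hopfIdeal K i
  have hφ : Function.Surjective (Bialgebra.Quotient.mkBialgHom (R := K) I) :=
    Ideal.Quotient.mk_surjective
  rw [ptsSub_eq_range i (Bialgebra.Quotient.mkBialgHom (R := K) I) e hei]
  exact Pt.isCl_range_map hφ

/-- The unit of the base change. -/
noncomputable def unitK (k K : Type u) [Field k] [Field K] [Algebra k K] :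
    𝟙_ (Over (Spec (CommRingCat.of K))) ⟶ Red.bc (sm k K) (𝟙_ (Over (Spec (CommRingCat.of k)))) :=
  Functor.LaxMonoidal.ε (Over.pullback (sm k K))

lemma unitK_left : (unitK k K).left ≫ prBc (sm k K) (𝟙_ (Over (Spec (CommRingCat.of k)))) = sm k K := by
  have h1 : prBc (sm k K) (𝟙_ (Over (Spec (CommRingCat.of k)))) =
      prBc (sm k K) (𝟙_ (Over (Spec (CommRingCat.of k)))) ≫ (𝟙_ (Over (Spec (CommRingCat.of k)))).hom :=
    (Category.comp_id _).symm
  have h2 : prBc (sm k K) (𝟙_ (Over (Spec (CommRingCat.of k)))) ≫ (𝟙_ (Over (Spec (CommRingCat.of k)))).hom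
      = (Red.bc (sm k K) (𝟙_ (Over (Spec (CommRingCat.of k))))).hom ≫ sm k K := pullback.condition
  rw [h1, h2, ← Category.assoc, Over.w (unitK k K)]
  exact Category.id_comp _

lemma unitIso_hom_left (K : Type u) [Field K] :
    (Groth.Agent.Books.AffBridge2.unitIso K).hom.left = 𝟙 (Spec (CommRingCat.of K)) := by
  have h0 : (SpecOver K K).hom = 𝟙 (Spec (CommRingCat.of K)) :=
    Spec.map_id (CommRingCat.of K)
  have h1 := Over.w (Groth.Agent.Books.AffBridge2.unitIso K).hom
  rw [h0] at h1
  exact (Category.comp_id _).symm.trans h1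

lemma ptEquiv_left (K : Type u) [Field K] {B : Type u} [CommRing B] [HopfAlgebra K B]
    (g : Pt K B) : (ptEquiv K B g).left = Spec.map (CommRingCat.ofHom (g.ofConv).toRingHom) := by
  rw [ptEquiv_apply, Over.comp_left, unitIso_hom_left]
  exact Category.id_comp _

/-- The `K`-point defined by a `k`-point, as a morphism. -/
lemma ptEquiv_extPt (e : G ≅ SpecOver k A) (h : Pt k A) :
    ptEquiv K (K ⊗[k] A) (extPt K h) =
      unitK k K ≫ (Over.pullback (sm k K)).map (ptEquiv k A h ≫ e.inv) ≫ (eK K e).hom := by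
  apply RootBridge989.hom_ext
  have h1 : (eK K e).hom.left ≫ prA k K A = prBc (sm k K) G ≫ e.hom.left := by
    change ((Over.pullback (sm k K)).map e.hom ≫ (bcIso K A).hom).left ≫ _ = _
    rw [Over.comp_left, Category.assoc, bcIso_left, map_prBc]
  have h2 : e.inv.left ≫ e.hom.left = 𝟙 _ := by
    rw [← Over.comp_left, e.inv_hom_id, Over.id_left]
  rw [Over.comp_left, Over.comp_left, Category.assoc, Category.assoc, h1, ← Category.assoc
    ((Over.pullback (sm k K)).map _).left, map_prBc, Category.assoc, Over.comp_left, Category.assoc,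
    h2, Category.comp_id, ← Category.assoc, unitK_left]
  rw [ptEquiv_left, ptEquiv_left]
  refine (Spec.map_comp _ _).symm.trans (Eq.trans ?_ (Spec.map_comp _ _))
  congr 1
  ext a
  change (extPt K h) ((1 : K) ⊗ₜ[k] a) = algebraMap k K (h a)
  rw [extPt_tmul, _root_.one_mul]

/-- Base change of a conjugated homomorphism. -/
lemma map_conjBy (g : 𝟙_ (Over (Spec (CommRingCat.of k))) ⟶ G) (i : H ⟶ G) :
    (Over.pullback (sm k K)).map (AGF.conjBy g i) =
      AGF.conjBy (unitK k K ≫ (Over.pullback (sm k K)).map g) ((Over.pullback (sm k K)).map i) := by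
  have h1 : (Over.pullback (sm k K)).map (toUnit H ≫ g) =
      toUnit _ ≫ (unitK k K ≫ (Over.pullback (sm k K)).map g) := by
    rw [Functor.map_comp, ← Category.assoc]
    congr 1
    exact ((Functor.Monoidal.toUnit_ε (Over.pullback (sm k K)) H)).symm
  rw [AGF.conjBy, AGF.conjBy, Functor.map_mul, Functor.map_mul, Functor.map_inv', h1]

/-- **The points of a conjugated subgroup.** -/
theorem gmPts_conjBy (e : G ≅ SpecOver k A) [IsMonHom e.hom] (h : Pt k A) (i : H ⟶ G) [IsMonHom i] :
    gmPts K e (AGF.conjBy (ptEquiv k A h ≫ e.inv) i) =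
      (gmPts K e i).map (MulAut.conj (extPt K h)).toMonoidHom := by
  rw [gmPts, gmPts, ← ptsSub_conjBy]
  have h1 : gm K e (AGF.conjBy (ptEquiv k A h ≫ e.inv) i) =
      AGF.conjBy (ptEquiv K (K ⊗[k] A) (extPt K h)) (gm K e i) := by
    rw [gm, map_conjBy, conjBy_comp, ptEquiv_extPt e h, Category.assoc, gm]
  congr 1

/-- The base change of the Hopf algebra of a smooth group is reduced. -/
theorem isReduced_tensor_of_smooth [IsAlgClosed K] [Algebra.FiniteType k A] (e : G ≅ SpecOver k A)
    [IsMonHom e.hom] [Smooth G.hom] : _root_.IsReduced (K ⊗[k] A) := by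
  have h1 : Smooth (Red.bc (sm k K) G).hom := by
    change Smooth (Limits.pullback.snd _ _)
    infer_instance
  have h2 : Smooth (SpecOver K (K ⊗[k] A)).hom := by
    have h3 := Over.w (eK K e).inv
    have h4 : IsIso (eK K e).inv.left := inferInstanceAs (IsIso ((Over.forget _).map (eK K e).inv))
    rw [← h3]
    infer_instance
  exact (smooth_iff (K := K) (K ⊗[k] A)).1 h2

section Factor

/-- Factorizations induce inclusions on points. -/
lemma gmPts_le_of_factor {H' : Over (Spec (CommRingCat.of k))} [GrpObj H'] (e : G ≅ SpecOver k A)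
    [IsMonHom e.hom] (i : H ⟶ G) [IsMonHom i] (i' : H' ⟶ G) [IsMonHom i'] (f : H ⟶ H')
    (hf : f ≫ i' = i) : gmPts K e i ≤ gmPts K e i' := by
  rintro x ⟨n, hn⟩
  refine ⟨n ≫ (Over.pullback (sm k K)).map f, ?_⟩
  rw [← hn, gm, gm, ← hf, Functor.map_comp]
  simp only [Category.assoc]

variable [IsAlgClosed K] [Algebra.FiniteType k A]

/-- **Inclusions on points give factorizations** (smooth source, closed target). -/
theorem exists_factor_of_gmPts_le {H' : Over (Spec (CommRingCat.of k))} [GrpObj H']
    (e : G ≅ SpecOver k A) [IsMonHom e.hom] (i : H ⟶ G) [IsMonHom i] [IsClosedImmersion i.left]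
    [Smooth H.hom] (i' : H' ⟶ G) [IsMonHom i'] [IsClosedImmersion i'.left]
    (h : gmPts K e i ≤ gmPts K e i') : ∃ f : H ⟶ H', f ≫ i' = i := by
  have hm : Mono i' := Groth.Agent.Books.AlgPtsGrp.mono_of_isClosedImmersion i'
  have h1 := isClosedImmersion_gm (K := K) e i inferInstance
  have h2 := isClosedImmersion_gm (K := K) e i' inferInstance
  have h3 : Smooth (Red.bc (sm k K) H).hom := by
    change Smooth (Limits.pullback.snd _ _)
    infer_instance
  obtain ⟨f, hf⟩ := exists_factor_of_le (A := K ⊗[k] A) (gm K e i) (gm K e i') h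
  refine Groth.Agent.Sga3B.Par.DynDesc383.exists_factor_of_bc (sm k K) i i' ⟨f, ?_⟩
  rw [gm, gm, ← Category.assoc, cancel_mono] at hf
  exact hf

end Factor

section Dense

/-- A function on `G_K` vanishing on `G(k)` is zero. -/
theorem eq_zero_of_extPt [Infinite k] (hG : Red.IsReductive G) (e : G ≅ SpecOver k A)
    (z : K ⊗[k] A) (hz : ∀ h : Pt k A, extPt K h z = 0) : z = 0 := by
  classical
  let b := Module.Basis.ofVectorSpace k K
  have hrep : z = 0 ↔ ∀ i, (TensorProduct.equivFinsuppOfBasisLeft b (N := A)) z i = 0 := by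
    rw [← (TensorProduct.equivFinsuppOfBasisLeft b (N := A)).map_eq_zero_iff]
    exact DFunLike.ext_iff
  rw [hrep]
  intro i
  apply Groth.Agent.Agf.H603.DenseField.eq_zero_of_forall hG e
  intro h
  have h1 : ∀ w : K ⊗[k] A, h ((TensorProduct.equivFinsuppOfBasisLeft b (N := A)) w i) =
      b.repr (extPt K (toConv h) w) i := by
    intro w
    induction w with
    | zero => 
      have h2 : extPt K (toConv h) (0 : K ⊗[k] A) = 0 := map_zero (extPt K (toConv h)).ofConv
      rw [h2]
      simp
    | add x y hx hy =>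
      have h2 : extPt K (toConv h) (x + y) = extPt K (toConv h) x + extPt K (toConv h) y :=
        map_add (extPt K (toConv h)).ofConv _ _
      rw [h2, map_add, map_add, Finsupp.add_apply, Finsupp.add_apply, map_add, hx, hy]
    | tmul c a =>
      rw [extPt_tmul, TensorProduct.equivFinsuppOfBasisLeft_apply_tmul_apply, map_smul,
        _root_.mul_comm, ← Algebra.smul_def, map_smul, Finsupp.smul_apply, smul_eq_mul,
        smul_eq_mul, _root_.mul_comm]
  rw [h1, hz (toConv h)]
  simp

/-- **A closed subset of `G(K)` containing `G(k)` is everything.** -/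
theorem eq_univ_of_extPt [Infinite k] (hG : Red.IsReductive G) (e : G ≅ SpecOver k A)
    {X : Set (Pt K (K ⊗[k] A))} (hX : IsCl X) (h : ∀ g : Pt k A, extPt K g ∈ X) : X = Set.univ := by
  rw [Set.eq_univ_iff_forall]
  intro x
  apply hX
  intro a ha
  have h1 : a = 0 := eq_zero_of_extPt hG e a fun g => ha _ (h g)
  rw [h1]
  exact map_zero x.ofConv

end Dense

end K501.BcPts
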