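import Groth.Agent.Sga3.H817.CentRepProj

/-!
# Centralizers over a field

Every scheme over a field has locally projective (even free) coordinate rings; hence the centralizer
of any morphism `q : Q ⟶ G` to a separated group over a field is a closed subgroup.
-/

set_option autoImplicit false

universe u

open CategoryTheory MonoidalCategory CartesianMonoidalCategory MonObj GrpObj AlgebraicGeometry Limits

namespace K501.CentField

open Groth.Agent.Sga3.H817.WeilProj

/-- Modules over a ring which is a field are projective. -/
theorem projective_of_isField {R M : Type u} [CommRing R] (hR : IsField R) [AddCommGroup M]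
    [Module R M] : Module.Projective R M := by
  letI : Field R := hR.toField
  exact Module.Projective.of_free

/-- Schemes over a field have locally projective coordinate rings. -/
theorem locProj {k : Type u} [Field k] {X : Scheme.{u}} (f : X ⟶ Spec (CommRingCat.of k)) :
    LocProj f := by
  intro s
  refine ⟨⊤, isAffineOpen_top _, trivial, fun x hx => ?_⟩
  obtain ⟨_, ⟨U, hU, rfl⟩, hxU, -⟩ :=
    X.isBasis_affineOpens.exists_subset_of_mem_open (Set.mem_univ x) isOpen_univ
  refine ⟨U, hU, le_top, hxU, ?_⟩
  letI := (f.appLE ⊤ U le_top).hom.toAlgebra
  refine projective_of_isField ?_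
  have e : Γ(Spec (CommRingCat.of k), ⊤) ≃+* k :=
    (Scheme.ΓSpecIso (CommRingCat.of k)).commRingCatIsoToRingEquiv
  exact e.toMulEquiv.isField (Field.toIsField k)

/-- The unit section of a group over a field which is affine is a closed immersion. -/
theorem isClosedImmersion_unit {k : Type u} [Field k] (G : Over (Spec (CommRingCat.of k))) [GrpObj G]
    [IsAffine G.left] : IsClosedImmersion (η[G] : 𝟙_ (Over (Spec (CommRingCat.of k))) ⟶ G).left := by
  have h1 : IsClosedImmersion ((η[G] : 𝟙_ (Over (Spec (CommRingCat.of k))) ⟶ G).left ≫ G.hom) := by
    rw [Over.w]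
    change IsClosedImmersion (𝟙 _)
    infer_instance
  exact IsClosedImmersion.of_comp _ G.hom

/-- **Centralizers over a field**: the centralizer of any morphism to an affine group over a
field is a closed subgroup. -/
theorem exists_centralizer {k : Type u} [Field k] (G : Over (Spec (CommRingCat.of k))) [GrpObj G]
    [IsAffine G.left] {Q : Over (Spec (CommRingCat.of k))} (q : Q ⟶ G) :
    ∃ (Z : Over (Spec (CommRingCat.of k))) (_ : GrpObj Z) (z : Z ⟶ G), IsClosedImmersion z.left ∧
      Red.IsCentralizerOf q z := by
  have h1 := isClosedImmersion_unit G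
  obtain ⟨Z, i, z, h2, h3, -⟩ :=
    Groth.Agent.Sga3.H817.CentRepProj.exists_centralizer q (locProj Q.hom)
  exact ⟨Z, i, z, h2, h3⟩

end K501.CentField
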