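import Groth.Agent.AGF.K501.BcPts
import Groth.Agent.AGF.K501.RadPts
import Groth.Agent.Agf.H609.GrothFinal
import Groth.Agent.Sga3B.RG.ConjTori
import Groth.Agent.Sga3B.RG.TorConj

/-!
# The maximal tori of a reductive group over a separably closed field generate it
-/

set_option autoImplicit false
set_option linter.unusedSectionVars false

universe u

open CategoryTheory MonoidalCategory CartesianMonoidalCategory MonObj GrpObj AlgebraicGeometry Limits
open Groth.Agent.Books.AffBridge Groth.Agent.Books.AffBridge2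
open TensorProduct WithConv
open Groth.Agent.Sga3B Groth.Agent.Sga3B.RG Groth.Agent.Sga3B.RG.BrPts Groth.Agent.Sga3B.RootBridge989
  Groth.Agent.Sga3B.RG.BcPt Groth.Agent.Sga3B.Parab.BorelPts172
open Groth.Agent.Agf.H604.BcSub Groth.Agent.Agf.H582.ConjDict K501.BcPts

namespace K501.MaxTori

section Pts

variable {K : Type u} [Field K] [IsAlgClosed K] {A : Type u} [CommRing A] [HopfAlgebra K A]
  [Algebra.FiniteType K A]

/-- A closed subgroup of a reductive group containing all conjugates of a maximal torus is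
everything. -/
theorem eq_top_of_conj_le [IsDomain A] (hred : IsRedPt K A) {P T : Subgroup (Pt K A)}
    (hP : IsCl (P : Set (Pt K A))) (hT : IsMaxTorusSub T)
    (h : ∀ g : Pt K A, T.map (MulAut.conj g).toMonoidHom ≤ P) : P = ⊤ := by
  have hT' : ∀ S : Subgroup (Pt K A), IsTorusSub S → S ≤ P := by
    intro S hS
    obtain ⟨T', hT', hST'⟩ := hS.exists_isMaxTorusSub
    obtain ⟨g, hg⟩ := ConjTori.exists_conj_of_isMaxTorusSub hT hT'
    rw [← hg] at hST'
    exact hST'.trans (h g)
  let J : Subgroup (Pt K A) := P.normalCore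
  have hJ : (J : Set (Pt K A)) = ⋂ g : Pt K A, (fun x : Pt K A => g * x * g⁻¹) ⁻¹' P := by
    ext x
    rw [Set.mem_iInter]
    exact Iff.rfl
  have hJcl : IsCl (J : Set (Pt K A)) := by
    rw [hJ]
    intro x hx
    rw [Set.mem_iInter]
    intro g
    have h1 : IsCl ((fun x : Pt K A => g * x * g⁻¹) ⁻¹' (P : Set (Pt K A))) :=
      hP.preimage_self (IsRegSelf.conj' g)
    apply h1
    intro a ha
    exact hx a fun y hy => ha y (Set.mem_iInter.1 hy g)
  have hJn : J.Normal := Subgroup.normalCore_normal P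
  have hJtop : J = ⊤ := by
    refine K501.RadPts.eq_top_of_forall_torus_le hred hJcl hJn fun S hS x hx g => ?_
    exact hT' _ (hS.conj g) ⟨x, hx, rfl⟩
  rw [eq_top_iff, ← hJtop]
  exact Subgroup.normalCore_le P

end Pts

section Field

variable {k : Type u} [Field k] {A : Type u} [CommRing A] [HopfAlgebra k A]
  [Algebra.FiniteType k A] {G H T : Over (Spec (CommRingCat.of k))} [GrpObj G] [GrpObj H] [GrpObj T]

/-- Conjugates of maximal tori are maximal tori. -/
theorem isMaximalTorus_conjBy (e : G ≅ SpecOver k A) [IsMonHom e.hom] [Smooth G.hom] (h : Pt k A)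
    {iT : T ⟶ G} (hT : Red.IsMaximalTorus iT) :
    Red.IsMaximalTorus (AGF.conjBy (ptEquiv k A h ≫ e.inv) iT) := by
  have h0 := isReduced_tensor_of_smooth (K := AlgebraicClosure k) e
  have h1 := hT.1
  have h2 := hT.2.1
  have h3 := mono_conjBy (ptEquiv k A h ≫ e.inv) iT
  have h4 := hT.2.2.1
  rw [isMaximalTorus_iff_pts (K := AlgebraicClosure k) e _ h4] at hT ⊢
  rw [gmPts_conjBy]
  exact K8.IsMaxTorusSub.conj hT _

/-- **A closed subgroup through which all maximal tori factor**, on geometric points. -/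
theorem gmPts_eq_top [IsSepClosed k] (hG : Red.IsReductive G) (e : G ≅ SpecOver k A)
    [IsMonHom e.hom] (i : H ⟶ G) [IsMonHom i] (hi : IsClosedImmersion i.left)
    (hH : ∀ (T : Over (Spec (CommRingCat.of k))) [GrpObj T] (iT : T ⟶ G), Red.IsMaximalTorus iT →
      ∃ t : T ⟶ H, t ≫ i = iT) : gmPts (AlgebraicClosure k) e i = ⊤ := by
  have hinf : Infinite k := infinite_of_isSepClosed k
  have haff : IsAffineHom G.hom := hG.1
  have haff' : IsAffine G.left := isAffine_of_isAffineHom G.hom
  have hsm : Smooth G.hom := hG.2.1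
  obtain ⟨hdom, hft, hred⟩ := isRedPt_bc (AlgebraicClosure k) e
    (RedBcAny636.isReductiveOver_bc hG (sm k (AlgebraicClosure k)))
  obtain ⟨T, _, iT, hT⟩ := Groth.Agent.Agf.H609.GrothFinal.exists_isMaximalTorus G
  have hm := hT.1
  have hmono := hT.2.1
  have hTp : IsMaxTorusSub (gmPts (AlgebraicClosure k) e iT) :=
    (isMaximalTorus_iff_pts (K := AlgebraicClosure k) e iT hT.2.2.1).1 hT
  have hcl1 := isClosedImmersion_gm (K := AlgebraicClosure k) e i hi
  have hPcl : IsCl (SetLike.coe (gmPts (AlgebraicClosure k) e i)) :=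
    isCl_ptsSub (B := AlgebraicClosure k ⊗[k] A) (gm (AlgebraicClosure k) e i)
  refine eq_top_of_conj_le hred hPcl hTp fun g => ?_
  rintro _ ⟨t, ht, rfl⟩
  have h1 : IsCl ((fun g : Pt (AlgebraicClosure k) (AlgebraicClosure k ⊗[k] A) => g * t * g⁻¹) ⁻¹'
      (SetLike.coe (gmPts (AlgebraicClosure k) e i))) :=
    hPcl.preimage_self (IsRegSelf.conj t)
  have h2 := eq_univ_of_extPt hG e h1 fun h => by
    have hT' := isMaximalTorus_conjBy e h hT
    have hm' := hT'.1
    obtain ⟨f, hf⟩ := hH T _ hT'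
    have h3 := gmPts_le_of_factor (K := AlgebraicClosure k) e _ i f hf
    rw [gmPts_conjBy] at h3
    exact h3 ⟨t, ht, rfl⟩
  exact (Set.eq_univ_iff_forall.1 h2) g

/-- A closed subgroup of a smooth group with all geometric points is everything. -/
theorem isIso_of_gmPts_eq_top {K : Type u} [Field K] [Algebra k K] [IsAlgClosed K]
    (e : G ≅ SpecOver k A) [IsMonHom e.hom] [Smooth G.hom] (i : H ⟶ G)
    [IsMonHom i] [IsClosedImmersion i.left] (h : gmPts K e i = ⊤) : IsIso i := by
  have h1 : IsClosedImmersion (𝟙 G : G ⟶ G).left := by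
    rw [Over.id_left]; infer_instance
  obtain ⟨f, hf⟩ := exists_factor_of_gmPts_le (K := K) e (𝟙 G) i (by rw [h]; exact le_top)
  have hm : Mono i := Groth.Agent.Books.AlgPtsGrp.mono_of_isClosedImmersion i
  have hs : IsSplitEpi i := IsSplitEpi.mk' ⟨f, hf⟩
  exact isIso_of_mono_of_isSplitEpi i

end Field

/-- **The maximal tori of a reductive group over a separably closed field generate it.** -/
theorem isIso_of_forall_maximalTorus (k : Type u) [Field k] [IsSepClosed k]
    (G : Over (Spec (CommRingCat.of k))) [GrpObj G] (hG : Red.IsReductive G)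
    (H : Over (Spec (CommRingCat.of k))) [GrpObj H] (i : H ⟶ G) [IsMonHom i]
    (hi : IsClosedImmersion i.left)
    (hH : ∀ (T : Over (Spec (CommRingCat.of k))) [GrpObj T] (iT : T ⟶ G), Red.IsMaximalTorus iT →
      ∃ t : T ⟶ H, t ≫ i = iT) : IsIso i := by
  have haff : IsAffineHom G.hom := hG.1
  have haff' : IsAffine G.left := isAffine_of_isAffineHom G.hom
  have hsm : Smooth G.hom := hG.2.1
  obtain ⟨A, _, _, e, he, hft⟩ := BrHc.exists_hopf_ft G
  exact isIso_of_gmPts_eq_top (K := AlgebraicClosure k) e i (gmPts_eq_top hG e i hi hH)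

end K501.MaxTori
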