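import Groth.Agent.AGF.K501.NormPts
import Groth.Agent.AGF.K501.MaxTori
import Groth.Agent.AGF.K501.CentField
import Groth.Agent.Sga3B.RG.ConnAct
import Groth.Agent.Sga3B.RG.NonComm
import Groth.Agent.Sga3B.DimFib

/-!
# Codimension one subgroups of unipotent groups are normal
-/

set_option autoImplicit false
set_option linter.unusedSectionVars false

universe u

open CategoryTheory MonoidalCategory CartesianMonoidalCategory MonObj GrpObj AlgebraicGeometry Limits
open Groth.Agent.Books.AffBridge Groth.Agent.Books.AffBridge2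
open TensorProduct WithConv
open Groth.Agent.Sga3B Groth.Agent.Sga3B.RG Groth.Agent.Sga3B.RG.BrPts Groth.Agent.Sga3B.RootBridge989
  Groth.Agent.Sga3B.RG.BcPt Groth.Agent.Sga3B.Parab.BorelPts172
open Groth.Agent.Agf.H604.BcSub Groth.Agent.Agf.H582.ConjDict K501.BcPts

namespace K501.CodimOne

section Pts

variable {K : Type u} [Field K] [IsAlgClosed K] {A : Type u} [CommRing A] [HopfAlgebra K A]
  [Algebra.FiniteType K A]

/-- A closed connected subgroup of codimension one of a connected nilpotent group is normal. -/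
theorem normalizer_eq_top [IsDomain A] [Group.IsNilpotent (Pt K A)] {P : Subgroup (Pt K A)}
    (hcl : IsCl (P : Set (Pt K A))) (hc : IsConn (P : Set (Pt K A))) {d : ℕ}
    (hd : ringKrullDim (A ⧸ vanIdeal (P : Set (Pt K A))) = (d : WithBot ℕ∞))
    (hd' : ringKrullDim A = ((d + 1 : ℕ) : WithBot ℕ∞)) :
    Subgroup.normalizer (P : Set (Pt K A)) = ⊤ := by
  set M := Subgroup.normalizer (P : Set (Pt K A)) with hM
  have hMcl : IsCl (M : Set (Pt K A)) := isCl_normalizer hcl
  have hPM : P ≤ idComp M := le_idComp hc Subgroup.le_normalizer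
  by_cases h : P = idComp M
  · have h1 : Subgroup.normalizer (M : Set (Pt K A)) ≤ M := by
      intro g hg
      rw [hM, Subgroup.mem_normalizer_iff]
      have key : ∀ g ∈ Subgroup.normalizer (M : Set (Pt K A)), ∀ x ∈ P, g * x * g⁻¹ ∈ P := by
        intro g hg x hx
        rw [h] at hx ⊢
        exact conj_mem_idComp hMcl (fun y hy => (Subgroup.mem_normalizer_iff.1 hg y).1 hy) hx
      intro x
      refine ⟨key g hg x, fun hx => ?_⟩
      have h2 := key g⁻¹ (inv_mem hg) _ hx
      have h3 : g⁻¹ * (g * x * g⁻¹) * g⁻¹⁻¹ = x := by group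
      rwa [h3] at h2
    exact (normalizerCondition_iff_only_full_group_self_normalizing.1
      Group.normalizerCondition_of_isNilpotent) M (le_antisymm h1 Subgroup.le_normalizer)
  · have hlt : P < idComp M := lt_of_le_of_ne hPM h
    have hI : vanIdeal (idComp M : Set (Pt K A)) < vanIdeal (P : Set (Pt K A)) := by
      refine lt_of_le_of_ne (vanIdeal_anti hlt.le) fun he => hlt.not_ge ?_
      rw [← SetLike.coe_subset_coe, hcl.subset_iff, he]
    have hp1 : (vanIdeal (idComp M : Set (Pt K A))).IsPrime := isConn_idComp M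
    have h1 := NC.ringKrullDim_quotient_succ_le hI
    by_cases hbot : vanIdeal (idComp M : Set (Pt K A)) = ⊥
    · have h2 : (idComp M : Set (Pt K A)) = Set.univ := by
        rw [← (isCl_idComp M).eq, hbot]
        ext x
        simp only [Set.mem_univ, iff_true]
        intro a ha
        rw [Submodule.mem_bot] at ha
        rw [ha]
        exact map_zero x.ofConv
      rw [eq_top_iff]
      intro x _
      exact idComp_le hMcl ((Set.eq_univ_iff_forall.1 h2) x)
    · exfalso
      have hp0 : (⊥ : Ideal A).IsPrime := Ideal.isPrime_bot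
      have h2 := NC.ringKrullDim_quotient_succ_le (bot_lt_iff_ne_bot.2 hbot)
      have h3 : ringKrullDim (A ⧸ (⊥ : Ideal A)) ≤ ringKrullDim A := ringKrullDim_quotient_le _
      have h4 : ringKrullDim (A ⧸ vanIdeal (P : Set (Pt K A))) + 1 + 1 ≤ ringKrullDim A :=
        le_trans (by gcongr) (h2.trans h3)
      rw [hd, hd'] at h4
      have h5 : ((d + 1 + 1 : ℕ) : WithBot ℕ∞) ≤ ((d + 1 : ℕ) : WithBot ℕ∞) := by
        exact_mod_cast h4
      have h6 : d + 1 + 1 ≤ d + 1 := by exact_mod_cast h5
      omega

end Pts

section Field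

variable {k : Type u} [Field k]

/-- The dimension of a group in terms of its Hopf algebra over an extension. -/
theorem ringKrullDim_eq {K : Type u} [Field K] [Algebra k K] {H : Over (Spec (CommRingCat.of k))}
    [LocallyOfFiniteType H.hom] {C : Type u} [CommRing C] [Algebra K C]
    (e : Red.bc (sm k K) H ≅ SpecOver K C) : ringKrullDim C = topologicalKrullDim ↥H.left := by
  have h1 := DimFib.topologicalKrullDim_baseChange_eq (k := CommRingCat.of k)
    (Ω := CommRingCat.of K) (Field.toIsField k) (Field.toIsField K) H.hom (sm k K) _ _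
    (IsPullback.of_hasPullback H.hom (sm k K))
  rw [← h1, ← PrimeSpectrum.topologicalKrullDim_eq_ringKrullDim]
  exact (IsHomeomorph.topologicalKrullDim_eq _
    (Groth.Agent.Books.AlgPtsIrred.homeo e).isHomeomorph).symm

end Field

end K501.CodimOne
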