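import Groth.Agent.AGF.K501.RadSch
import Groth.Agent.Agf.H623.BorelSch

/-!
# Homomorphisms of affine groups over an algebraically closed field, on points
-/

set_option autoImplicit false

universe u

open CategoryTheory MonoidalCategory CartesianMonoidalCategory MonObj GrpObj AlgebraicGeometry Limits
open Groth.Agent.Books.AffBridge Groth.Agent.Books.AffBridge2

namespace K501.HomPts

open Groth.Agent.Sga3B Groth.Agent.Sga3B.RG Groth.Agent.Sga3B.RG.BrPts
open Groth.Agent.Books.AlgPtsGrp Groth.Agent.Books.AlgPtsIrred Groth.Agent.Books.AlgPtsSmooth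
open Groth.Agent.Sga3B.Parab.BorelPts172 Groth.Agent.Agf.H614.AlgDict Groth.Agent.Agf.H623

variable {K : Type u} [Field K]
variable {A C : Type u} [CommRing A] [HopfAlgebra K A] [CommRing C] [HopfAlgebra K C]
variable {G G' : Over (Spec (CommRingCat.of K))} [GrpObj G] [GrpObj G']
variable (e : G ≅ SpecOver K A) [IsMonHom e.hom] (e' : G' ≅ SpecOver K C) [IsMonHom e'.hom]

/-- The points of `u ≫ π`. -/
theorem ptsSub_comp {π : G ⟶ G'} [IsMonHom π] {φ : C →ₐc[K] A}
    (hφ : e.inv ≫ π ≫ e'.hom = specMap K (φ : C →ₐ[K] A))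
    {U : Over (Spec (CommRingCat.of K))} [GrpObj U] (u : U ⟶ G) [IsMonHom u] :
    ptsSub ((u ≫ π) ≫ e'.hom) = (ptsSub (u ≫ e.hom)).map (Pt.map φ) := by
  ext g
  rw [mem_ptsSub]
  constructor
  · rintro ⟨n, hn⟩
    refine ⟨(ptEquiv K A).symm (n ≫ u ≫ e.hom), ⟨n, by simp⟩, (ptEquiv K C).injective ?_⟩
    rw [ptEquiv_map, MulEquiv.apply_symm_apply, ← hn, ← hφ]
    simp only [Category.assoc, Iso.hom_inv_id_assoc]
  · rintro ⟨x, ⟨n, hn⟩, rfl⟩
    refine ⟨n, ?_⟩
    rw [ptEquiv_map, ← hn, ← hφ]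
    simp only [Category.assoc, Iso.hom_inv_id_assoc]

variable [IsAlgClosed K] [Algebra.FiniteType K A] [Algebra.FiniteType K C]

/-- A surjective homomorphism is surjective on points. -/
theorem ptMap_surjective {π : G ⟶ G'} [Surjective π.left] {φ : C →ₐc[K] A}
    (hφ : e.inv ≫ π ≫ e'.hom = specMap K (φ : C →ₐ[K] A)) :
    Function.Surjective (Pt.map (K := K) φ) := by
  refine BorelSch.ptMap_surjective φ ?_
  rw [← hφ]
  have h1 : IsIso e.inv.left := inferInstanceAs (IsIso ((Over.forget _).map e.inv))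
  have h2 : IsIso e'.hom.left := inferInstanceAs (IsIso ((Over.forget _).map e'.hom))
  rw [Over.comp_left, Over.comp_left]
  infer_instance

/-- Surjectivity of the map induced on closed subgroups can be checked on points. -/
theorem surjective_of_le {π : G ⟶ G'} [IsMonHom π] {φ : C →ₐc[K] A}
    (hφ : e.inv ≫ π ≫ e'.hom = specMap K (φ : C →ₐ[K] A))
    {U U' : Over (Spec (CommRingCat.of K))} [GrpObj U] [GrpObj U'] (u : U ⟶ G) [IsMonHom u]
    [IsClosedImmersion u.left] (u' : U' ⟶ G') [IsMonHom u'] [IsClosedImmersion u'.left]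
    (f : U ⟶ U') (hf : f ≫ u' = u ≫ π)
    (h : ptsSub (u' ≫ e'.hom) ≤ (ptsSub (u ≫ e.hom)).map (Pt.map φ)) : Surjective f.left := by
  have hA := lft_specOver (K := K) A
  have hC := lft_specOver (K := K) C
  have hcl : IsClosedImmersion (u ≫ e.hom).left := by
    rw [Over.comp_left]; infer_instance
  have hcl' : IsClosedImmersion (u' ≫ e'.hom).left := by
    rw [Over.comp_left]; infer_instance
  have haffU : IsAffine U.left := isAffine_of_isAffineHom (u ≫ e.hom).left
  have haffU' : IsAffine U'.left := isAffine_of_isAffineHom (u' ≫ e'.hom).left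
  have hftU : LocallyOfFiniteType U.hom := by
    rw [← Over.w (u ≫ e.hom)]; infer_instance
  have hftU' : LocallyOfFiniteType U'.hom := by
    rw [← Over.w (u' ≫ e'.hom)]; infer_instance
  have hmono : Mono (u' ≫ e'.hom) := mono_of_isClosedImmersion _
  refine SchSurj.surjective_of_forall_pt f fun y => ?_
  have h1 : (ptEquiv K C).symm (y ≫ u' ≫ e'.hom) ∈ ptsSub (u' ≫ e'.hom) := ⟨y, by simp⟩
  obtain ⟨x, hx⟩ := (ptsSub_comp e e' hφ u).ge (h h1)
  refine ⟨x, ?_⟩
  rw [← cancel_mono (u' ≫ e'.hom), Category.assoc, reassoc_of% hf]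
  rw [Category.assoc] at hx
  rw [hx, MulEquiv.apply_symm_apply]

end K501.HomPts
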