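import Groth.Agent.AGF.K501.MaxTori
import Groth.Agent.Sga3B.KerGrp
import Groth.Agent.S3901

/-!
# Homomorphisms from a reductive group which are trivial on a maximal torus
-/

set_option autoImplicit false
set_option linter.unusedSectionVars false

universe u

open CategoryTheory MonoidalCategory CartesianMonoidalCategory MonObj GrpObj AlgebraicGeometry Limits
open Groth.Agent.Sga3B Groth.Agent.Sga3B.KerGrp Groth.Agent.Agf.H582.ConjDict

namespace K501.HomTorus

variable {k : Type u} [Field k] [IsAlgClosed k] {G : Over (Spec (CommRingCat.of k))} [GrpObj G]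

/-- A homomorphism from a reductive group over an algebraically closed field which is trivial on a
maximal torus is trivial. -/
theorem eq_one_of_torus (hG : Red.IsReductive G) {T : Over (Spec (CommRingCat.of k))} [GrpObj T]
    (iT : T ⟶ G) (hT : Red.IsMaximalTorus iT) {C : Over (Spec (CommRingCat.of k))} [GrpObj C]
    [IsSeparated C.hom] (θ : G ⟶ C) [IsMonHom θ] (h : iT ≫ θ = 1) : θ = 1 := by
  obtain ⟨_, hk⟩ := exists_grpObj θ
  have haff : IsAffineHom G.hom := hG.1
  have haff' : IsAffine G.left := isAffine_of_isAffineHom G.hom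
  have hsm : Smooth G.hom := hG.2.1
  have hconn : ConnectedSpace G.left := by
    have hne : Nonempty ↥(Spec (CommRingCat.of k)) := inferInstanceAs (Nonempty (PrimeSpectrum k))
    obtain ⟨s⟩ := hne
    have h2 : ConnectedSpace (Red.geomFibre s G).left := (hG.2.2 s).2.2.1
    have h2' : ConnectedSpace ↥(pullback G.hom (Red.geomPt s)) := h2
    have h3 : Surjective (pullback.fst G.hom (Red.geomPt s)) := by
      have := Groth.Agent.Agf.H614.FieldGlue.surjective_geomPt s
      infer_instance
    exact h3.surj.connectedSpace (pullback.fst G.hom (Red.geomPt s)).continuous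
  have hiso := K501.MaxTori.isIso_of_forall_maximalTorus k G hG (kerObj θ) (kerι θ) inferInstance (by
    intro T' _ iT' hT'
    obtain ⟨g, f, hf⟩ := Groth.Agent.S3901.result k G T T' iT iT'
      ((Groth.Agent.Agf.H609.GrothFinal.isMaxTorus_iff G T iT).2 hT)
      ((Groth.Agent.Agf.H609.GrothFinal.isMaxTorus_iff G T' iT').2 hT')
    refine exists_lift θ iT' ?_
    have h1 : iT' = f.inv ≫ AGF.conjBy g iT := by rw [← hf, Iso.inv_hom_id_assoc]
    rw [h1, Category.assoc, conjBy_comp, h, AGF.conjBy, _root_.mul_one, mul_inv_cancel,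
      MonObj.comp_one])
  have h1 := kerι_comp θ
  rw [← cancel_epi (kerι θ), h1, MonObj.comp_one]

/-- Homomorphisms from a reductive group over an algebraically closed field to a commutative group
which agree on a maximal torus are equal. -/
theorem eq_of_torus (hG : Red.IsReductive G) {T : Over (Spec (CommRingCat.of k))} [GrpObj T]
    (iT : T ⟶ G) (hT : Red.IsMaximalTorus iT) {C : Over (Spec (CommRingCat.of k))} [GrpObj C]
    [IsSeparated C.hom] (hC : ∀ (X : Over (Spec (CommRingCat.of k))) (x y : X ⟶ C), x * y = y * x)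
    (f g : G ⟶ C) [IsMonHom f] [IsMonHom g] (h : iT ≫ f = iT ≫ g) : f = g := by
  have hmon : IsMonHom (f * g⁻¹) := by
    apply Groth.Agent.Sga3B.Pts.isMonHom_of_points
    intro X x y
    have e1 : (x * y) ≫ f = (x ≫ f) * (y ≫ f) := MonObj.mul_comp x y f
    have e2 : (x * y) ≫ g = (x ≫ g) * (y ≫ g) := MonObj.mul_comp x y g
    rw [MonObj.comp_mul, MonObj.comp_mul, MonObj.comp_mul, GrpObj.comp_inv, GrpObj.comp_inv,
      GrpObj.comp_inv, e1, e2, _root_.mul_inv_rev,
      hC _ (y ≫ g)⁻¹ (x ≫ g)⁻¹, _root_.mul_assoc, _root_.mul_assoc, ← _root_.mul_assoc (y ≫ f),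
      hC _ (y ≫ f) (x ≫ g)⁻¹, _root_.mul_assoc]
  have h1 : iT ≫ (f * g⁻¹) = 1 := by
    rw [MonObj.comp_mul, GrpObj.comp_inv, h, mul_inv_cancel]
  exact mul_inv_eq_one.1 (eq_one_of_torus hG iT hT (f * g⁻¹) h1)

end K501.HomTorus
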