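import Groth.Agent.AGF.K501.HomPts
import Groth.Agent.AGF.K501.BcPts
import Groth.Agent.AGF.K501.CentField
import Groth.Agent.Agf.H609.GrothFinal
import Groth.Agent.Sga3.H789.FieldHull1
import Groth.Agent.Sga3.H962.Fpqc
import Groth.Agent.Sga3.H813.MaxTorDesc
import Groth.Agent.Sga3B.TorClosed636
import Groth.Agent.Sga3B.MaxTorBc636
import Groth.Agent.Sga3B.SplitBc264
import Groth.Agent.Sga3B.MaxTorNear900
import Groth.Agent.S3936

/-!
# Maximal tori and homomorphisms with central kernel

`f : H' ⟶ H` a surjective homomorphism with central kernel of reductive groups over a field.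

* `CentKer f`: the kernel is central, on points; base change;
* `exists_factor`: the preimage of a subgroup `T` of `H` is contained in any subgroup of `H'`
  containing the centre and mapping flatly onto `T`;
* `isMaximalTorus_preimage_ac`: over an algebraically closed field the preimage of a maximal torus
  is a maximal torus.
-/

set_option autoImplicit false
set_option linter.unusedSectionVars false

universe u

open CategoryTheory MonoidalCategory CartesianMonoidalCategory MonObj GrpObj AlgebraicGeometry Limits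
open Groth.Agent.Books.AffBridge Groth.Agent.Books.AffBridge2
open TensorProduct WithConv
open Groth.Agent.Sga3B Groth.Agent.Sga3B.RG Groth.Agent.Sga3B.RG.BrPts Groth.Agent.Sga3B.RootBridge989
  Groth.Agent.Sga3B.RG.BcPt Groth.Agent.Sga3B.Parab.BorelPts172
open Groth.Agent.Agf.H604.BcSub Groth.Agent.Agf.H582.ConjDict K501.BcPts

namespace K501.IsogTorus

section General

variable {S : Scheme.{u}}

/-- The kernel of `f` is central, on points. -/
def CentKer {H' H : Over S} [GrpObj H'] [GrpObj H] (f : H' ⟶ H) : Prop :=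
  ∀ (X : Over S) (x h : X ⟶ H'), x ≫ f = 1 → x * h = h * x

theorem centKer_of_isKernel {H' H N : Over S} [GrpObj H'] [GrpObj H] [GrpObj N] (f : H' ⟶ H)
    (iN : N ⟶ H') (hN : AlgGrp.IsKernel iN f)
    (hc : ∀ (X : Over S) (x : X ⟶ N) (X' : Over S) (y : X' ⟶ X) (h : X' ⟶ H'),
      (y ≫ x ≫ iN) * h = h * (y ≫ x ≫ iN)) : CentKer f := by
  intro X x h hx
  have h1 : x ≫ f = toUnit X ≫ η[H] := by
    rw [hx, one_eq_one]
    exact (MonObj.comp_one _).symm
  obtain ⟨l, hl, -⟩ := hN.exists_lift x (toUnit X) h1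
  have h2 := hc X l X (𝟙 X) h
  rwa [hl, Category.id_comp] at h2

open Groth.Agent.Sga3B.RedIso Groth.Agent.Sga3B.BcNat Groth.Agent.Sga3B.DSPts in
theorem centKer_bc {S' : Scheme.{u}} (v : S' ⟶ S) {H' H : Over S} [GrpObj H'] [GrpObj H]
    {f : H' ⟶ H} (hf : CentKer f) : CentKer ((Over.pullback v).map f) := by
  intro X x h hx
  have h1 : (bcEquiv v X H').symm x ≫ f = 1 := by
    apply (bcEquiv v X H).injective
    rw [← bcEquiv_comp, MulEquiv.apply_symm_apply, hx, map_one]
  have h2 := congrArg (bcEquiv v X H') (hf _ _ ((bcEquiv v X H').symm h) h1)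
  rwa [map_mul, map_mul, MulEquiv.apply_symm_apply, MulEquiv.apply_symm_apply] at h2

/-- The preimage of a subgroup is contained in any subgroup which contains the centre and covers
the subgroup. -/
theorem exists_factor {H' H T T' S₁ : Over S} [GrpObj H'] [GrpObj H] [GrpObj S₁] (f : H' ⟶ H)
    [IsMonHom f] (hf : CentKer f) (i : T ⟶ H) (i' : T' ⟶ H') (p : T' ⟶ T)
    (hsq : i' ≫ f = p ≫ i) (j : S₁ ⟶ H') [IsMonHom j] [Mono j] (g : S₁ ⟶ T)
    [Flat g.left] [Surjective g.left] [QuasiCompact g.left] (hg : g ≫ i = j ≫ f)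
    (hc : ∀ (X : Over S) (x : X ⟶ H'), (∀ (X' : Over S) (y : X' ⟶ X) (h : X' ⟶ H'),
      (y ≫ x) * h = h * (y ≫ x)) → ∃ s : X ⟶ S₁, s ≫ j = x) :
    ∃ y : T' ⟶ S₁, y ≫ j = i' := by
  have hpb := IsPullback.of_hasPullback p g
  have hpbl : IsPullback (pullback.fst p g).left (pullback.snd p g).left p.left g.left :=
    hpb.map (Over.forget S)
  have h1 : Flat (pullback.fst p g).left := MorphismProperty.of_isPullback hpbl.flip ‹_›
  have h2 : Surjective (pullback.fst p g).left := MorphismProperty.of_isPullback hpbl.flip ‹_›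
  have h3 : QuasiCompact (pullback.fst p g).left := MorphismProperty.of_isPullback hpbl.flip ‹_›
  have h4 : (pullback.fst p g ≫ i') ≫ f = (pullback.snd p g ≫ j) ≫ f := by
    rw [Category.assoc, Category.assoc, hsq, ← hg, pullback.condition_assoc]
  have h5 : ((pullback.fst p g ≫ i') * (pullback.snd p g ≫ j)⁻¹) ≫ f = 1 := by
    rw [MonObj.mul_comp, GrpObj.inv_comp, h4, mul_inv_cancel]
  obtain ⟨s, hs⟩ := hc _ ((pullback.fst p g ≫ i') * (pullback.snd p g ≫ j)⁻¹) (by
    intro X' y h
    refine hf X' _ h ?_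
    rw [Category.assoc, h5, MonObj.comp_one])
  have h6 : (s * pullback.snd p g) ≫ j = pullback.fst p g ≫ i' := by
    rw [MonObj.mul_comp, hs, inv_mul_cancel_right]
  obtain ⟨y, hy⟩ := Groth.Agent.Sga3.H962.Fpqc.exists_desc (pullback.fst p g)
    (s * pullback.snd p g) (by
      intro X a b hab
      rw [← cancel_mono j, Category.assoc, Category.assoc, h6, ← Category.assoc, hab,
        Category.assoc])
  refine ⟨y, ?_⟩
  have hepi : Epi (pullback.fst p g) := Groth.Agent.Sga3.H962.Fpqc.epi_of_flat_surjective _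
  rw [← cancel_epi (pullback.fst p g), ← Category.assoc, hy, h6]

/-- The same for centralizers: a point commuting with a covering subgroup commutes with all. -/
theorem commute_of_cover {H T S₁ : Over S} [GrpObj H] (i : T ⟶ H) (g : S₁ ⟶ T)
    [Flat g.left] [Surjective g.left] [QuasiCompact g.left] {X : Over S} (x : X ⟶ H) (t : X ⟶ T)
    (h : ∀ (X' : Over S) (y : X' ⟶ X) (s : X' ⟶ S₁), (y ≫ x) * (s ≫ g ≫ i) =
      (s ≫ g ≫ i) * (y ≫ x)) : x * (t ≫ i) = (t ≫ i) * x := by
  have hpb := IsPullback.of_hasPullback t g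
  have hpbl : IsPullback (pullback.fst t g).left (pullback.snd t g).left t.left g.left :=
    hpb.map (Over.forget S)
  have h1 : Flat (pullback.fst t g).left := MorphismProperty.of_isPullback hpbl.flip ‹_›
  have h2 : Surjective (pullback.fst t g).left := MorphismProperty.of_isPullback hpbl.flip ‹_›
  have h3 : QuasiCompact (pullback.fst t g).left := MorphismProperty.of_isPullback hpbl.flip ‹_›
  have hepi : Epi (pullback.fst t g) := Groth.Agent.Sga3.H962.Fpqc.epi_of_flat_surjective _
  rw [← cancel_epi (pullback.fst t g), MonObj.comp_mul, MonObj.comp_mul, ← Category.assoc,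
    pullback.condition, Category.assoc]
  exact h _ _ _

end General

section Field

/-- Surjective homomorphisms onto reduced groups over a field are flat. -/
theorem flat_of_surjective {k : Type u} [Field k] {G H : Over (Spec (CommRingCat.of k))} [GrpObj G]
    [GrpObj H] (g : G ⟶ H) [IsMonHom g] [QuasiCompact g.left] [Surjective g.left]
    [LocallyOfFiniteType H.hom] [IsReduced H.left] : Flat g.left := by
  have h1 : IsLocallyNoetherian H.left := LocallyOfFiniteType.isLocallyNoetherian H.hom
  have h2 : IsDominant g.left := inferInstance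
  have h3 : IsSchemeTheoreticallyDominant g.left := IsSchemeTheoreticallyDominant.of_isDominant g.left
  exact Groth.Agent.Sga3.H789.FieldHull1.flat_of_dominant g

variable {K : Type u} [Field K] [IsAlgClosed K]

/-- A maximal torus of `H` is covered by a maximal torus of `H'`, `f : H' ⟶ H` surjective. -/
theorem exists_maximalTorus_over (H' H : Over (Spec (CommRingCat.of K))) [GrpObj H'] [GrpObj H]
    [IsAffine H'.left] [Smooth H'.hom] [ConnectedSpace H'.left]
    [IsAffine H.left] [Smooth H.hom] [ConnectedSpace H.left]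
    (f : H' ⟶ H) [IsMonHom f] [Surjective f.left] (T : Over (Spec (CommRingCat.of K))) [GrpObj T]
    (i : T ⟶ H) (hi : IsClosedImmersion i.left) (hT : Red.IsMaximalTorus i) :
    ∃ (S₁ : Over (Spec (CommRingCat.of K))) (_ : GrpObj S₁) (j : S₁ ⟶ H') (g : S₁ ⟶ T),
      Red.IsMaximalTorus j ∧ IsClosedImmersion j.left ∧ IsMonHom g ∧ Flat g.left ∧
      Surjective g.left ∧ QuasiCompact g.left ∧ g ≫ i = j ≫ f := by
  obtain ⟨A', _, _, e', he', hft', hdom'⟩ := Groth.Agent.Agf.H614.FieldGlue.exists_hopf_domain H'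
  obtain ⟨A, _, _, e, he, hft, hdom⟩ := Groth.Agent.Agf.H614.FieldGlue.exists_hopf_domain H
  obtain ⟨φ, hφ⟩ := Groth.Agent.Agf.H623.BorelSch.exists_bialgHom e' e f
  have hs := K501.HomPts.ptMap_surjective e' e hφ
  have him := hT.1
  have himono := hT.2.1
  have hTs : Smooth T.hom := TorusAlgClosed.smooth_of_isTorus hT.2.2.1
  have hTp := Groth.Agent.Agf.H614.AlgDict.isMaxTorusSub e
    ((Groth.Agent.Agf.H609.GrothFinal.isMaxTorus_iff H T i).2 hT)
  obtain ⟨S, S', hS, hS', hSS', hmap⟩ :=
    Groth.Agent.Agf.H609.GrothFix.exists_map_eq_of_surjective φ hs hTp.1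
  have hmapS : S.map (Pt.map φ) = ptsSub (i ≫ e.hom) :=
    hTp.2 _ (Groth.Agent.Agf.H609.MaxTorImg.isTorusSub_map φ hS.1)
      (by rw [← hmap]; exact Subgroup.map_mono hSS')
  obtain ⟨S₁, _, j₀, hj₀, hS₁, hj₀cl, hj₀p⟩ := BrTorus.exists_of_isTorusSub hS.1
  have hinv : IsMonHom e'.inv := inferInstance
  have hS₁s : Smooth S₁.hom := TorusAlgClosed.smooth_of_isTorus hS₁
  have hcl : IsClosedImmersion (j₀ ≫ e'.inv).left := by
    rw [Over.comp_left]; infer_instance
  have hmono : Mono (j₀ ≫ e'.inv) := Groth.Agent.Books.AlgPtsGrp.mono_of_isClosedImmersion _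
  have hpts : ptsSub ((j₀ ≫ e'.inv) ≫ e'.hom) = S := by
    rw [← hj₀p]
    congr 1
    rw [Category.assoc, Iso.inv_hom_id, Category.comp_id]
  have hmax : Red.IsMaximalTorus (j₀ ≫ e'.inv) := by
    rw [← Groth.Agent.Agf.H609.GrothFinal.isMaxTorus_iff,
      Groth.Agent.Agf.H614.AlgDict.isMaxTorus_iff e' _ hS₁, hpts]
    exact hS
  have h1 := K501.HomPts.ptsSub_comp e' e hφ (j₀ ≫ e'.inv)
  rw [hpts, hmapS] at h1
  obtain ⟨g, hg⟩ := Groth.Agent.Agf.H614.AlgDict.exists_factor_of_ptsSub_le e
    ((j₀ ≫ e'.inv) ≫ f) i h1.le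
  have hgs : Surjective g.left := K501.HomPts.surjective_of_le e' e hφ (j₀ ≫ e'.inv) i g hg
    (by rw [hpts, hmapS])
  have hgm : IsMonHom g := by
    apply Groth.Agent.Sga3B.Pts.isMonHom_of_points
    intro X x y
    rw [← cancel_mono i, Category.assoc, hg, MonObj.mul_comp, MonObj.mul_comp,
      Category.assoc x g i, Category.assoc y g i, hg]
  have haff1 : IsAffine S₁.left := isAffine_of_isAffineHom (j₀ ≫ e'.inv).left
  have haff2 : IsAffine T.left := isAffine_of_isAffineHom i.left
  have hred : IsReduced T.left := Groth.Agent.Books.AlgPtsSmooth.isReduced_of_smooth T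
  exact ⟨S₁, inferInstance, j₀ ≫ e'.inv, g, hmax, hcl, hgm, flat_of_surjective g, hgs,
    inferInstance, hg⟩

/-- Reductive groups over a field: instances. -/
lemma instances_of_isReductive {k : Type u} [Field k] {G : Over (Spec (CommRingCat.of k))} [GrpObj G]
    (hG : Red.IsReductive G) : IsAffine G.left ∧ Smooth G.hom ∧ ConnectedSpace G.left := by
  have h1 : IsAffineHom G.hom := hG.1
  refine ⟨isAffine_of_isAffineHom G.hom, hG.2.1, ?_⟩
  have hne : Nonempty ↥(Spec (CommRingCat.of k)) := inferInstanceAs (Nonempty (PrimeSpectrum k))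
  obtain ⟨s⟩ := hne
  have h2 : ConnectedSpace (Red.geomFibre s G).left := (hG.2.2 s).2.2.1
  have h2' : ConnectedSpace ↥(pullback G.hom (Red.geomPt s)) := h2
  have h3 : Surjective (pullback.fst G.hom (Red.geomPt s)) := by
    have := Groth.Agent.Agf.H614.FieldGlue.surjective_geomPt s
    infer_instance
  exact h3.surj.connectedSpace (pullback.fst G.hom (Red.geomPt s)).continuous

/-- The centre of a reductive group over a field is contained in every maximal torus. -/
theorem exists_factor_of_central {k : Type u} [Field k] {G T : Over (Spec (CommRingCat.of k))}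
    [GrpObj G] [GrpObj T] (hG : Red.IsReductive G) (j : T ⟶ G) (hj : Red.IsMaximalTorus j)
    (X : Over (Spec (CommRingCat.of k))) (x : X ⟶ G)
    (hx : ∀ (X' : Over (Spec (CommRingCat.of k))) (y : X' ⟶ X) (h : X' ⟶ G),
      (y ≫ x) * h = h * (y ≫ x)) : ∃ s : X ⟶ T, s ≫ j = x := by
  obtain ⟨h1, h2, h3⟩ := instances_of_isReductive hG
  obtain ⟨Z, _, z, -, hz⟩ := K501.CentField.exists_centralizer G (𝟙 G)
  obtain ⟨f, hf⟩ := Groth.Agent.S3936.result k G hG Z z hz T j hj
  obtain ⟨c, hc⟩ := (hz.2.2 X x).2 fun X' y h => by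
    rw [Category.comp_id]
    exact hx X' y h
  exact ⟨c ≫ f, by rw [Category.assoc, hf, hc]⟩

/-- **The preimage of a maximal torus** under a surjective homomorphism with central kernel of
reductive groups over an algebraically closed field is a maximal torus. -/
theorem isMaximalTorus_preimage_ac (H' H : Over (Spec (CommRingCat.of K))) [GrpObj H'] [GrpObj H]
    (hH' : Red.IsReductive H') (hH : Red.IsReductive H)
    (f : H' ⟶ H) [IsMonHom f] [Surjective f.left] (hf : CentKer f)
    {T T' : Over (Spec (CommRingCat.of K))} [GrpObj T] [GrpObj T']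
    (i : T ⟶ H) (hT : Red.IsMaximalTorus i) (i' : T' ⟶ H') [IsMonHom i'] (p : T' ⟶ T)
    (hsq : IsPullback i' p f i) : Red.IsMaximalTorus i' := by
  obtain ⟨_, _, _⟩ := instances_of_isReductive hH'
  obtain ⟨_, _, _⟩ := instances_of_isReductive hH
  obtain ⟨S₁, _, j, g, hj, hjcl, hgm, hgf, hgs, hgq, hg⟩ := exists_maximalTorus_over H' H f T i
    (TorClosed636.isClosedImmersion_of_isMaximalTorus hH hT) hT
  have hjm := hj.1
  have hjmono := hj.2.1
  have himono := hT.2.1
  have hi'mono : Mono i' := ⟨fun a b hab => by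
    apply hsq.hom_ext hab
    rw [← cancel_mono i, Category.assoc, Category.assoc, ← hsq.w, ← Category.assoc, hab,
      Category.assoc]⟩
  obtain ⟨y, hy⟩ := exists_factor f hf i i' p hsq.w j g hg
    (fun X x hx => exists_factor_of_central hH' j hj X x hx)
  obtain ⟨l, hl, -⟩ := hsq.exists_lift j g hg.symm
  have hlm : IsMonHom l := by
    apply Groth.Agent.Sga3B.Pts.isMonHom_of_points
    intro X a b
    rw [← cancel_mono i', Category.assoc, hl, MonObj.mul_comp, MonObj.mul_comp,
      Category.assoc a l i', Category.assoc b l i', hl]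
  let ε : S₁ ≅ T' := ⟨l, y, by rw [← cancel_mono j, Category.assoc, hy, hl, Category.id_comp],
    by rw [← cancel_mono i', Category.assoc, hl, hy, Category.id_comp]⟩
  have hε : IsMonHom ε.hom := hlm
  refine AlgBc.isMaximalTorus_of_arrow (i := j) (Grp.mkIso' ε) (Iso.refl (Grp.mk H')) ?_ hj
  change j ≫ 𝟙 _ = l ≫ i'
  rw [hl, Category.comp_id]

/-- `Spec K ⟶ Spec k` is open. -/
lemma isOpenMap_sm (k K : Type u) [Field k] [Field K] [Algebra k K] : IsOpenMap (sm k K).base := by
  have hs : Subsingleton (Spec (CommRingCat.of k)) := inferInstanceAs (Subsingleton (PrimeSpectrum k))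
  intro U hU
  rcases Set.eq_empty_or_nonempty ((sm k K).base '' U) with h | h
  · rw [h]; exact isOpen_empty
  · rw [Subsingleton.eq_univ_of_nonempty h]; exact isOpen_univ

/-- **The preimage of a maximal torus** under a surjective homomorphism with central kernel of
reductive groups over a field is a maximal torus. -/
theorem isMaximalTorus_preimage {k : Type u} [Field k]
    (H' H : Over (Spec (CommRingCat.of k))) [GrpObj H'] [GrpObj H]
    (hH' : Red.IsReductive H') (hH : Red.IsReductive H)
    (f : H' ⟶ H) [IsMonHom f] [Surjective f.left] (hf : CentKer f)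
    {T T' : Over (Spec (CommRingCat.of k))} [GrpObj T] [GrpObj T']
    (i : T ⟶ H) (hT : Red.IsMaximalTorus i) (i' : T' ⟶ H') [IsMonHom i'] (p : T' ⟶ T)
    (hsq : IsPullback i' p f i) : Red.IsMaximalTorus i' := by
  have himono := hT.2.1
  have hi'mono : Mono i' := ⟨fun a b hab => by
    apply hsq.hom_ext hab
    rw [← cancel_mono i, Category.assoc, Category.assoc, ← hsq.w, ← Category.assoc, hab,
      Category.assoc]⟩
  refine Groth.Agent.Sga3.H813.MaxTorDesc.isMaximalTorus_of_bc (sm k (AlgebraicClosure k))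
    (isOpenMap_sm _ _) i' inferInstance inferInstance ?_
  have h1 : Surjective ((Over.pullback (sm k (AlgebraicClosure k))).map f).left :=
    MorphismProperty.of_isPullback (SplitBc264.isPullback_map_left _ f) ‹_›
  exact isMaximalTorus_preimage_ac _ _ (RedBcAny636.isReductive_bc _ hH')
    (RedBcAny636.isReductive_bc _ hH) ((Over.pullback (sm k (AlgebraicClosure k))).map f)
    (centKer_bc _ hf) ((Over.pullback (sm k (AlgebraicClosure k))).map i)
    (MaxTorBc636.isMaximalTorus_bc _ hH hT) ((Over.pullback (sm k (AlgebraicClosure k))).map i')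
    ((Over.pullback (sm k (AlgebraicClosure k))).map p) (hsq.map _)

/-- The image of a maximal torus under a surjective homomorphism (algebraically closed field). -/
theorem exists_maximalTorus_under (H' H : Over (Spec (CommRingCat.of K))) [GrpObj H'] [GrpObj H]
    [IsAffine H'.left] [Smooth H'.hom] [ConnectedSpace H'.left]
    [IsAffine H.left] [Smooth H.hom] [ConnectedSpace H.left]
    (f : H' ⟶ H) [IsMonHom f] [Surjective f.left] (S₁ : Over (Spec (CommRingCat.of K))) [GrpObj S₁]
    (j : S₁ ⟶ H') (hj : Red.IsMaximalTorus j) :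
    ∃ (T : Over (Spec (CommRingCat.of K))) (_ : GrpObj T) (i : T ⟶ H) (g : S₁ ⟶ T),
      Red.IsMaximalTorus i ∧ IsMonHom g ∧ Flat g.left ∧
      Surjective g.left ∧ QuasiCompact g.left ∧ g ≫ i = j ≫ f := by
  obtain ⟨A', _, _, e', he', hft', hdom'⟩ := Groth.Agent.Agf.H614.FieldGlue.exists_hopf_domain H'
  obtain ⟨A, _, _, e, he, hft, hdom⟩ := Groth.Agent.Agf.H614.FieldGlue.exists_hopf_domain H
  obtain ⟨φ, hφ⟩ := Groth.Agent.Agf.H623.BorelSch.exists_bialgHom e' e f
  have hs := K501.HomPts.ptMap_surjective e' e hφ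
  have hjm := hj.1
  have hjmono := hj.2.1
  have hS₁s : Smooth S₁.hom := TorusAlgClosed.smooth_of_isTorus hj.2.2.1
  have hjcl : IsClosedImmersion j.left :=
    Groth.Agent.Agf.H614.AlgDict.isClosedImmersion_of_isTorus e' j hj.2.2.1
  have hSp := Groth.Agent.Agf.H614.AlgDict.isMaxTorusSub e'
    ((Groth.Agent.Agf.H609.GrothFinal.isMaxTorus_iff H' S₁ j).2 hj)
  have hR := Groth.Agent.Agf.H609.MaxTorImg.isMaxTorusSub_map φ hs hSp
  obtain ⟨T, _, j₀, hj₀, hT, hj₀cl, hj₀p⟩ := BrTorus.exists_of_isTorusSub hR.1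
  have hinv : IsMonHom e.inv := inferInstance
  have hTs : Smooth T.hom := TorusAlgClosed.smooth_of_isTorus hT
  have hcl : IsClosedImmersion (j₀ ≫ e.inv).left := by
    rw [Over.comp_left]; infer_instance
  have hmono : Mono (j₀ ≫ e.inv) := Groth.Agent.Books.AlgPtsGrp.mono_of_isClosedImmersion _
  have hpts : ptsSub ((j₀ ≫ e.inv) ≫ e.hom) = (ptsSub (j ≫ e'.hom)).map (Pt.map φ) := by
    rw [← hj₀p]
    congr 1
    rw [Category.assoc, Iso.inv_hom_id, Category.comp_id]
  have hmax : Red.IsMaximalTorus (j₀ ≫ e.inv) := by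
    rw [← Groth.Agent.Agf.H609.GrothFinal.isMaxTorus_iff,
      Groth.Agent.Agf.H614.AlgDict.isMaxTorus_iff e _ hT, hpts]
    exact hR
  have h1 := K501.HomPts.ptsSub_comp e' e hφ j
  obtain ⟨g, hg⟩ := Groth.Agent.Agf.H614.AlgDict.exists_factor_of_ptsSub_le e
    (j ≫ f) (j₀ ≫ e.inv) (h1.trans hpts.symm).le
  have hgs : Surjective g.left := K501.HomPts.surjective_of_le e' e hφ j (j₀ ≫ e.inv) g hg hpts.le
  have hgm : IsMonHom g := by
    apply Groth.Agent.Sga3B.Pts.isMonHom_of_points
    intro X x y
    rw [← cancel_mono (j₀ ≫ e.inv), Category.assoc, hg, MonObj.mul_comp, MonObj.mul_comp,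
      Category.assoc x g, Category.assoc y g, hg]
  have haff1 : IsAffine S₁.left := isAffine_of_isAffineHom j.left
  have haff2 : IsAffine T.left := isAffine_of_isAffineHom (j₀ ≫ e.inv).left
  have hred : IsReduced T.left := Groth.Agent.Books.AlgPtsSmooth.isReduced_of_smooth T
  exact ⟨T, inferInstance, j₀ ≫ e.inv, g, hmax, hgm, flat_of_surjective g, hgs,
    inferInstance, hg⟩

/-- The centralizer of the image of a maximal torus is a maximal torus covered by it (algebraically
closed field). -/
theorem isMaximalTorus_centralizer_ac (H' H : Over (Spec (CommRingCat.of K))) [GrpObj H'] [GrpObj H]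
    (hH' : Red.IsReductive H') (hH : Red.IsReductive H)
    (f : H' ⟶ H) [IsMonHom f] [Surjective f.left]
    {T S₁ : Over (Spec (CommRingCat.of K))} [GrpObj T] [GrpObj S₁]
    (j : S₁ ⟶ H') (hj : Red.IsMaximalTorus j) (i : T ⟶ H) (hi : Red.IsCentralizerOf (j ≫ f) i)
    (p : S₁ ⟶ T) (hp : p ≫ i = j ≫ f) : Red.IsMaximalTorus i ∧ Surjective p.left := by
  obtain ⟨_, _, _⟩ := instances_of_isReductive hH'
  obtain ⟨_, _, _⟩ := instances_of_isReductive hH
  obtain ⟨T₁, _, i₁, g, hi₁, hgm, hgf, hgs, hgq, hg⟩ := exists_maximalTorus_under H' H f S₁ j hj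
  have hi₁m := hi₁.1
  have hi₁mono := hi₁.2.1
  have him := hi.1
  have himono := hi.2.1
  obtain ⟨l, hl⟩ := (hi.2.2 T₁ i₁).2 (by
    intro X x h
    rw [← hg, ← Category.assoc h g i₁, ← MonObj.mul_comp, ← MonObj.mul_comp,
      MaxTorNear900.mul_comm_of_isTorus hi₁.2.2.1])
  obtain ⟨y, hy⟩ := ((TorClosed636.isCentralizerOf_self hH hi₁).2.2 T i).2 (by
    intro X x t
    refine commute_of_cover i₁ g (x ≫ i) t fun X' z s => ?_
    have h1 := (hi.2.2 T i).1 ⟨𝟙 T, Category.id_comp _⟩ X' (z ≫ x) s
    rw [Category.assoc] at h1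
    rw [hg]
    exact h1)
  have hlm : IsMonHom l := by
    apply Groth.Agent.Sga3B.Pts.isMonHom_of_points
    intro X a b
    rw [← cancel_mono i, Category.assoc, hl, MonObj.mul_comp, MonObj.mul_comp,
      Category.assoc a l i, Category.assoc b l i, hl]
  let ε : T₁ ≅ T := ⟨l, y, by rw [← cancel_mono i₁, Category.assoc, hy, hl, Category.id_comp],
    by rw [← cancel_mono i, Category.assoc, hl, hy, Category.id_comp]⟩
  have hε : IsMonHom ε.hom := hlm
  refine ⟨AlgBc.isMaximalTorus_of_arrow (i := i₁) (Grp.mkIso' ε) (Iso.refl (Grp.mk H)) ?_ hi₁, ?_⟩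
  · change i₁ ≫ 𝟙 _ = l ≫ i
    rw [hl, Category.comp_id]
  · have h1 : p = g ≫ ε.hom := by
      rw [← cancel_mono i, hp, Category.assoc, ← hg]
      congr 1
      exact hl.symm
    have h0 : IsIso ε.hom := ε.isIso_hom
    have h2 : IsIso ε.hom.left := (Over.forget _).map_isIso ε.hom
    rw [h1, Over.comp_left]
    infer_instance

/-- **A maximal torus is the preimage of a maximal torus**, for surjective homomorphisms with central
kernel of reductive groups over a field. -/
theorem exists_isPullback {k : Type u} [Field k]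
    (H' H : Over (Spec (CommRingCat.of k))) [GrpObj H'] [GrpObj H]
    (hH' : Red.IsReductive H') (hH : Red.IsReductive H)
    (f : H' ⟶ H) [IsMonHom f] [Surjective f.left] (hf : CentKer f)
    {S₁ : Over (Spec (CommRingCat.of k))} [GrpObj S₁] (j : S₁ ⟶ H') (hj : Red.IsMaximalTorus j) :
    ∃ (T : Over (Spec (CommRingCat.of k))) (_ : GrpObj T) (i : T ⟶ H) (p : S₁ ⟶ T),
      Red.IsMaximalTorus i ∧ IsPullback j p f i := by
  obtain ⟨_, _, _⟩ := instances_of_isReductive hH'
  obtain ⟨_, _, _⟩ := instances_of_isReductive hH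
  obtain ⟨T, _, i, hicl, hi⟩ := K501.CentField.exists_centralizer H (j ≫ f)
  have him := hi.1
  have himono := hi.2.1
  have hjm := hj.1
  have hjmono := hj.2.1
  obtain ⟨p, hp⟩ := (hi.2.2 S₁ (j ≫ f)).2 (by
    intro X x h
    rw [← MonObj.mul_comp, ← MonObj.mul_comp, MaxTorNear900.mul_comm_of_isTorus hj.2.2.1])
  have h1 : Surjective ((Over.pullback (sm k (AlgebraicClosure k))).map f).left :=
    MorphismProperty.of_isPullback (SplitBc264.isPullback_map_left _ f) ‹_›
  have h2 := SplitBc264.isCentralizerOf_bc (sm k (AlgebraicClosure k)) hi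
  rw [Functor.map_comp] at h2
  obtain ⟨h3, h4⟩ := isMaximalTorus_centralizer_ac _ _
    (RedBcAny636.isReductive_bc (sm k (AlgebraicClosure k)) hH')
    (RedBcAny636.isReductive_bc (sm k (AlgebraicClosure k)) hH)
    ((Over.pullback (sm k (AlgebraicClosure k))).map f)
    ((Over.pullback (sm k (AlgebraicClosure k))).map j)
    (MaxTorBc636.isMaximalTorus_bc _ hH' hj)
    ((Over.pullback (sm k (AlgebraicClosure k))).map i) h2
    ((Over.pullback (sm k (AlgebraicClosure k))).map p)
    (by rw [← Functor.map_comp, hp, Functor.map_comp])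
  have hmax : Red.IsMaximalTorus i :=
    Groth.Agent.Sga3.H813.MaxTorDesc.isMaximalTorus_of_bc (sm k (AlgebraicClosure k))
      (isOpenMap_sm _ _) i inferInstance inferInstance h3
  have hTs : Smooth T.hom := TorusAlgClosed.smooth_of_isTorus hmax.2.2.1
  have hSs : Smooth S₁.hom := TorusAlgClosed.smooth_of_isTorus hj.2.2.1
  have hps : Surjective p.left := by
    have h5 := (SplitBc264.isPullback_map_left (sm k (AlgebraicClosure k)) p).w
    have h6 : Surjective (pullback.fst T.hom (sm k (AlgebraicClosure k))) := inferInstance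
    have h7 : Surjective (((Over.pullback (sm k (AlgebraicClosure k))).map p).left ≫
        pullback.fst T.hom (sm k (AlgebraicClosure k))) := inferInstance
    rw [← h5] at h7
    exact Surjective.of_comp (pullback.fst S₁.hom (sm k (AlgebraicClosure k))) p.left
  have hpm : IsMonHom p := by
    apply Groth.Agent.Sga3B.Pts.isMonHom_of_points
    intro X x y
    rw [← cancel_mono i, Category.assoc, hp, MonObj.mul_comp, MonObj.mul_comp,
      Category.assoc x p i, Category.assoc y p i, hp]
  have haff1 : IsAffine T.left := isAffine_of_isAffineHom i.left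
  have hjcl := TorClosed636.isClosedImmersion_of_isMaximalTorus hH' hj
  have haff2 : IsAffine S₁.left := isAffine_of_isAffineHom j.left
  have hred : IsReduced T.left := Groth.Agent.Books.AlgPtsSmooth.isReduced_of_smooth T
  have hflat : Flat p.left := flat_of_surjective p
  refine ⟨T, inferInstance, i, p, hmax, ⟨⟨hp.symm⟩, ⟨PullbackCone.IsLimit.mk _
    (fun s => (exists_factor f hf i s.fst s.snd s.condition j p hp
      (fun X x hx => exists_factor_of_central hH' j hj X x hx)).choose)
    (fun s => (exists_factor f hf i s.fst s.snd s.condition j p hp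
      (fun X x hx => exists_factor_of_central hH' j hj X x hx)).choose_spec)
    (fun s => ?_) (fun s m hm1 hm2 => ?_)⟩⟩⟩
  · rw [← cancel_mono i, Category.assoc, hp, ← Category.assoc,
      (exists_factor f hf i s.fst s.snd s.condition j p hp
      (fun X x hx => exists_factor_of_central hH' j hj X x hx)).choose_spec, s.condition]
  · rw [← cancel_mono j, hm1, (exists_factor f hf i s.fst s.snd s.condition j p hp
      (fun X x hx => exists_factor_of_central hH' j hj X x hx)).choose_spec]

end Field

end K501.IsogTorus
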