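import Groth.Prelude.Def_AlphaP
import Groth.Prelude.Def_ConstGrp
import Groth.Agent.Sga3B.RG.BrTorus
import Groth.Agent.Sga3B.RootBridge989
import Groth.Agent.Agf.H614.FieldGlue
import Mathlib.Algebra.DualNumber
import Mathlib.Algebra.Polynomial.Taylor
import Mathlib.RingTheory.HopfAlgebra.TensorProduct
import Mathlib.RingTheory.Bialgebra.GroupLike

/-!
# Tori contain neither `α_p` nor `ℤ/p`
-/

set_option autoImplicit false
universe u
open CategoryTheory MonoidalCategory CartesianMonoidalCategory MonObj GrpObj AlgebraicGeometry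
open Groth.Agent.Books.AffBridge Groth.Agent.Sga3B.RootBridge989 Groth.Agent.Sga3B.RG Groth.Agent.Sga3B.RG.BrPts
  Groth.Agent.Sga3B.RG.BrTorus
open TensorProduct

namespace K501.NoUnip

section alpha

open Polynomial

variable (p : ℕ) (k K : Type u) [Field k] [Field K] [Algebra k K]

/-- The coordinate of `α_p` over `K`. -/
noncomputable def t : K ⊗[k] AlphaP.A p k := 1 ⊗ₜ AlphaP.x p k

lemma t_pow : t p k K ^ p = 0 := by
  rw [t, Algebra.TensorProduct.tmul_pow, AlphaP.x_pow, TensorProduct.tmul_zero]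

lemma aeval_t_surjective : Function.Surjective (aeval (R := K) (t p k K)) := by
  intro b
  induction b with
  | zero => exact ⟨0, map_zero _⟩
  | add x y hx hy =>
    obtain ⟨f, rfl⟩ := hx
    obtain ⟨g, rfl⟩ := hy
    exact ⟨f + g, map_add _ _ _⟩
  | tmul c a =>
    obtain ⟨h, rfl⟩ := AlphaP.mk_surjective p k a
    refine ⟨C c * h.map (algebraMap k K), ?_⟩
    rw [map_mul, aeval_C, aeval_map_algebraMap, ← AlphaP.aeval_x]
    have h1 : aeval (t p k K) h = (1 : K) ⊗ₜ[k] aeval (AlphaP.x p k) h := by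
      have h2 := aeval_algHom_apply (Algebra.TensorProduct.includeRight : AlphaP.A p k →ₐ[k] K ⊗[k] AlphaP.A p k)
        (AlphaP.x p k) h
      exact h2
    rw [h1, Algebra.TensorProduct.algebraMap_apply, Algebra.TensorProduct.tmul_mul_tmul]
    simp

lemma eq_zero_of_aeval_t {f : K[X]} (hf : f.degree < p) (h : aeval (t p k K) f = 0) : f = 0 := by
  let ψ : AlphaP.A p k →ₐ[k] AdjoinRoot ((X : K[X]) ^ p) :=
    AlphaP.lift p k (AdjoinRoot.root ((X : K[X]) ^ p)) (AlphaP.x_pow p K)
  let β : K ⊗[k] AlphaP.A p k →ₐ[K] AdjoinRoot ((X : K[X]) ^ p) :=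
    Algebra.TensorProduct.lift (Algebra.ofId K _) ψ (fun _ _ => Commute.all _ _)
  have h1 : β (t p k K) = AdjoinRoot.root ((X : K[X]) ^ p) := by
    simp [β, t, ψ]
  have h2 : AdjoinRoot.mk ((X : K[X]) ^ p) f = 0 := by
    rw [← AdjoinRoot.aeval_eq, ← h1, aeval_algHom_apply, h, map_zero]
  have h3 : ((X : K[X]) ^ p) ∣ f := AdjoinRoot.mk_eq_zero.1 h2
  by_contra hne
  have h4 := degree_le_of_dvd h3 hne
  rw [degree_X_pow] at h4
  exact absurd (lt_of_le_of_lt h4 hf) (lt_irrefl _)

variable [hp : Fact p.Prime] [CharP k p]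

lemma comul_t : Coalgebra.comul (R := K) (t p k K) = t p k K ⊗ₜ[K] 1 + 1 ⊗ₜ[K] t p k K := by
  rw [t, TensorProduct.comul_tmul]
  simp [TensorProduct.tmul_add, Algebra.TensorProduct.one_def]

/-- Translation of functions on `α_p` by a dual number. -/
noncomputable def psi : K ⊗[k] AlphaP.A p k →ₐ[K] DualNumber (K ⊗[k] AlphaP.A p k) :=
  Algebra.TensorProduct.lift (Algebra.ofId K _) (AlphaP.lift p k DualNumber.eps (by
    obtain ⟨n, hn⟩ : ∃ n, p = 2 + n := ⟨p - 2, by have := hp.out.two_le; omega⟩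
    rw [hn, pow_add, pow_two, DualNumber.eps_mul_eps, zero_mul])) (fun _ _ => Commute.all _ _)

lemma psi_t : psi p k K (t p k K) = DualNumber.eps := by
  simp [psi, t]

noncomputable def delta : K ⊗[k] AlphaP.A p k →ₐ[K] DualNumber (K ⊗[k] AlphaP.A p k) :=
  (Algebra.TensorProduct.lift (TrivSqZeroExt.inlAlgHom K (K ⊗[k] AlphaP.A p k) (K ⊗[k] AlphaP.A p k)) (psi p k K)
    (fun _ _ => Commute.all _ _)).comp (Bialgebra.comulAlgHom K (K ⊗[k] AlphaP.A p k))

lemma delta_t : delta p k K (t p k K) = TrivSqZeroExt.inl (t p k K) + DualNumber.eps := by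
  rw [delta, AlgHom.comp_apply, Bialgebra.comulAlgHom_apply, comul_t, map_add, Algebra.TensorProduct.lift_tmul,
    Algebra.TensorProduct.lift_tmul, psi_t, map_one, map_one, _root_.one_mul, _root_.mul_one]
  rfl

include k in
lemma natCast_ne_zero {n : ℕ} (h0 : 0 < n) (hn : n < p) : (n : K) ≠ 0 := by
  have : CharP K p := charP_of_injective_algebraMap (algebraMap k K).injective p
  intro h
  rw [CharP.cast_eq_zero_iff K p] at h
  exact absurd (Nat.le_of_dvd h0 h) (not_le.2 hn)

/-- **`α_p` has no non-trivial characters.** -/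
theorem groupLike_eq_one {g : K ⊗[k] AlphaP.A p k} (hg : IsGroupLikeElem K g) : g = 1 := by
  obtain ⟨f₀, hf₀⟩ := aeval_t_surjective p k K g
  have hmon : ((X : K[X]) ^ p).Monic := monic_X_pow p
  set f : K[X] := f₀ %ₘ (X ^ p) with hf
  have hgf : aeval (t p k K) f = g := by
    rw [← hf₀, hf]
    conv_rhs => rw [← modByMonic_add_div f₀ (X ^ p)]
    rw [map_add, map_mul, map_pow, aeval_X, t_pow, zero_mul, add_zero]
  have hdeg : f.degree < p := by
    have := degree_modByMonic_lt f₀ hmon
    rwa [degree_X_pow] at this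
  have hsq : (DualNumber.eps : DualNumber (K ⊗[k] AlphaP.A p k)) ^ 2 = 0 := by
    rw [pow_two, DualNumber.eps_mul_eps]
  have h1 : delta p k K g = TrivSqZeroExt.inl g * psi p k K g := by
    rw [delta, AlgHom.comp_apply, Bialgebra.comulAlgHom_apply, hg.comul_eq_tmul_self, Algebra.TensorProduct.lift_tmul]
    rfl
  have h2 : delta p k K g = aeval (TrivSqZeroExt.inl (t p k K)) f +
      aeval (TrivSqZeroExt.inl (t p k K)) (derivative f) * DualNumber.eps := by
    rw [← hgf, ← aeval_algHom_apply, delta_t, aeval_add_of_sq_eq_zero _ _ _ hsq]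
  have h3 : psi p k K g = aeval 0 f + aeval 0 (derivative f) * DualNumber.eps := by
    rw [← hgf, ← aeval_algHom_apply, psi_t]
    conv_lhs => rw [← zero_add (DualNumber.eps : DualNumber (K ⊗[k] AlphaP.A p k))]
    rw [aeval_add_of_sq_eq_zero _ _ _ hsq]
  have h4 : ∀ h : K[X], aeval (TrivSqZeroExt.inl (t p k K) : DualNumber (K ⊗[k] AlphaP.A p k)) h =
      TrivSqZeroExt.inl (aeval (t p k K) h) := fun h =>
    aeval_algHom_apply (TrivSqZeroExt.inlAlgHom K (K ⊗[k] AlphaP.A p k) (K ⊗[k] AlphaP.A p k)) (t p k K) h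
  have h5 : ∀ h : K[X], aeval (0 : DualNumber (K ⊗[k] AlphaP.A p k)) h =
      TrivSqZeroExt.inl (algebraMap K _ (h.eval 0)) := fun h => by
    have h6 := aeval_algebraMap_apply (DualNumber (K ⊗[k] AlphaP.A p k)) (0 : K) h
    rw [map_zero] at h6
    rw [h6, ← coe_aeval_eq_eval]
    rfl
  have h6 : aeval (t p k K) (derivative f) = aeval (t p k K) (C ((derivative f).eval 0) * f) := by
    have h7 := congrArg TrivSqZeroExt.snd (h2.symm.trans (h1.trans (congrArg _ h3)))
    rw [h4, h4, h5, h5] at h7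
    rw [map_mul, aeval_C, hgf]
    simpa [mul_comm] using h7
  have h7 : derivative f = C ((derivative f).eval 0) * f := by
    rw [← sub_eq_zero]
    apply eq_zero_of_aeval_t p k K _ (by rw [map_sub, h6, sub_self])
    refine lt_of_le_of_lt (degree_sub_le _ _) (max_lt ?_ ?_)
    · exact lt_of_le_of_lt (degree_derivative_le) hdeg
    · refine lt_of_le_of_lt (degree_mul_le _ _) ?_
      refine lt_of_le_of_lt (add_le_add_left degree_C_le _) ?_
      rwa [zero_add]
  have hf0 : f ≠ 0 := by
    intro h0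
    apply hg.ne_zero
    rw [← hgf, h0, map_zero]
  have h8 : derivative f = 0 := by
    by_contra hne
    have hc : (derivative f).eval 0 ≠ 0 := by
      intro h0
      rw [h0, map_zero, zero_mul] at h7
      exact hne h7
    have h9 : (derivative f).degree = f.degree := by
      conv_lhs => rw [h7]
      rw [degree_mul, degree_C hc, zero_add]
    exact absurd (degree_derivative_lt hf0) (by rw [h9]; exact lt_irrefl _)
  have h9 : f = C (f.coeff 0) := by
    ext n
    rcases n with _ | n
    · simp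
    · rw [coeff_C, if_neg (Nat.succ_ne_zero n)]
      by_cases hn : n + 1 < p
      · have h10 := congrArg (fun q => q.coeff n) h8
        simp only [coeff_derivative, coeff_zero] at h10
        have h11 : ((n : K) + 1) ≠ 0 := by
          have := natCast_ne_zero p k K (n := n + 1) (Nat.succ_pos n) hn
          rwa [Nat.cast_add, Nat.cast_one] at this
        exact (mul_eq_zero.1 h10).resolve_right h11
      · apply coeff_eq_zero_of_degree_lt
        refine lt_of_lt_of_le hdeg ?_
        exact_mod_cast not_lt.1 hn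
  have h10 : g = algebraMap K _ (f.coeff 0) := by
    rw [← hgf]
    conv_lhs => rw [h9]
    rw [aeval_C]
  have h11 := hg.counit_eq_one
  rw [h10, Bialgebra.counit_algebraMap] at h11
  rw [h10, h11, map_one]

lemma t_ne_zero : t p k K ≠ 0 := by
  intro h
  have h1 : (X : K[X]) = 0 := eq_zero_of_aeval_t p k K
    (by rw [degree_X]; exact_mod_cast hp.out.one_lt) (by rw [aeval_X, h])
  exact X_ne_zero h1

end alpha

section torus

variable {k : Type u} [Field k]

lemma torus_bc {T : Over (Spec (CommRingCat.of k))} [GrpObj T] (hT : Red.IsTorus T) (K : Type u) [Field K]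
    [IsAlgClosed K] [Algebra k K] :
    ∃ (n : ℕ) (e : Red.bc (sm k K) T ≅ SpecOver K (KZ K n)), IsMonHom e.hom :=
  isTorus_iff.1 (Groth.Agent.Sga3B.TorusBc.isTorus_bc (sm k K) hT)

/-- **A torus does not contain `α_p`.** -/
theorem not_mono_alphaP (p : ℕ) [Fact p.Prime] [CharP k p] {T : Over (Spec (CommRingCat.of k))} [GrpObj T]
    (hT : Red.IsTorus T) (φ : SpecOver k (AlphaP.A p k) ⟶ T) [IsMonHom φ] : ¬ Mono φ := by
  intro hm
  let K := AlgebraicClosure k
  obtain ⟨n, e, he⟩ := torus_bc hT K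
  let f : SpecOver K (K ⊗[k] AlphaP.A p k) ⟶ SpecOver K (KZ K n) :=
    (bcIso K (AlphaP.A p k)).inv ≫ (Over.pullback (sm k K)).map φ ≫ e.hom
  have hf : IsMonHom f := inferInstance
  have hfm : Mono f := inferInstance
  obtain ⟨F, hF⟩ := exists_bialgHom_of_isMonHom K f
  have h1 : ∀ m : Multiplicative (Fin n → ℤ), F (MonoidAlgebra.single m 1) = 1 := fun m =>
    groupLike_eq_one p k K ((MonoidAlgebra.isGroupLikeElem_single_one m).map F)
  let σ : K ⊗[k] AlphaP.A p k →ₐ[K] K ⊗[k] AlphaP.A p k :=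
    (Algebra.ofId K _).comp (Bialgebra.counitAlgHom K (K ⊗[k] AlphaP.A p k))
  have h2 : σ.comp (F : KZ K n →ₐ[K] K ⊗[k] AlphaP.A p k) = (F : KZ K n →ₐ[K] K ⊗[k] AlphaP.A p k) := by
    apply MonoidAlgebra.algHom_ext
    · intro m
      rw [AlgHom.comp_apply]
      change σ (F (MonoidAlgebra.single m 1)) = F (MonoidAlgebra.single m 1)
      rw [h1, map_one]
    · exact Subsingleton.elim _ _
  have h3 : specMap K σ = specMap K (AlgHom.id K _) := by
    rw [← cancel_mono f, ← hF, ← specMap_comp, ← specMap_comp, h2]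
    rfl
  have h4 : σ = AlgHom.id K _ := specMap_injective K h3
  have h5 : σ (t p k K) = t p k K := by rw [h4]; rfl
  apply t_ne_zero p k K
  rw [← h5]
  change algebraMap K _ (Coalgebra.counit (R := K) (t p k K)) = 0
  rw [t, TensorProduct.counit_tmul]
  simp

/-- The points of a torus have no `p`-torsion in characteristic `p`. -/
theorem eq_one_of_pow (p : ℕ) [Fact p.Prime] [CharP k p] {T : Over (Spec (CommRingCat.of k))} [GrpObj T]
    (hT : Red.IsTorus T) (x : 𝟙_ (Over (Spec (CommRingCat.of k))) ⟶ T) (hx : x ^ p = 1) : x = 1 := by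
  let K := AlgebraicClosure k
  obtain ⟨n, e, he⟩ := torus_bc hT K
  have hei : IsMonHom e.inv := inferInstance
  have hch : CharP K p := charP_of_injective_algebraMap (algebraMap k K).injective p
  let E : (Multiplicative (Fin n → ℤ) →* Kˣ) ≃* (𝟙_ (Over (Spec (CommRingCat.of K))) ⟶ Red.bc (sm k K) T) :=
    ((torPt (K := K) (Multiplicative (Fin n → ℤ))).trans (ptEquiv K (KZ K n))).trans
      { toFun := fun x => x ≫ e.inv
        invFun := fun x => x ≫ e.hom
        left_inv := fun x => by simp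
        right_inv := fun x => by simp
        map_mul' := fun x y => MonObj.mul_comp x y e.inv }
  let c : (Over.map (sm k K)).obj (𝟙_ (Over (Spec (CommRingCat.of K)))) ⟶ 𝟙_ (Over (Spec (CommRingCat.of k))) :=
    toUnit _
  have hc : Epi c := by
    have h1 : c.left = sm k K := by simp [c]
    have h2 : Surjective c.left := by
      rw [h1]
      exact Groth.Agent.Agf.H614.FieldGlue.surjective_spec_field _
    have h3 : Flat c.left := by
      rw [h1]
      exact Groth.Agent.Agf.H614.FieldGlue.flat_of_spec_field _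
    have : Epi c.left := Flat.epi_of_flat_of_surjective _
    exact Over.epi_of_epi_left c
  rw [← cancel_epi c]
  apply (Groth.Agent.Sga3B.BcPts.bcMulEquiv (sm k K) _ T).injective
  apply E.symm.injective
  rw [MonObj.comp_one, map_one, map_one]
  generalize hψ : E.symm (Groth.Agent.Sga3B.BcPts.bcMulEquiv (sm k K) _ T (c ≫ x)) = ψ
  have h0 : (c ≫ x) ^ p = 1 := by
    rw [← MonObj.comp_pow, hx, MonObj.comp_one]
  have h1 : ψ ^ p = 1 := by
    rw [← hψ]
    refine (map_pow E.symm _ p).symm.trans ?_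
    rw [← map_pow, h0, map_one, map_one]
  refine MonoidHom.ext fun m => ?_
  have h2 : (ψ m) ^ p = 1 := by
    have := DFunLike.congr_fun h1 m
    simpa using this
  have h3 : ((ψ m : Kˣ) : K) ^ p = 1 := by
    rw [← Units.val_pow_eq_pow_val, h2, Units.val_one]
  rw [MonoidHom.one_apply]
  apply Units.ext
  have h4 : frobenius K p ((ψ m : Kˣ) : K) = frobenius K p 1 := by
    rw [frobenius_def, frobenius_def, one_pow, h3]
  exact frobenius_inj K p h4

/-- **A torus does not contain `ℤ/p` in characteristic `p`.** -/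
theorem not_mono_constZMod (p : ℕ) [Fact p.Prime] [CharP k p] {T : Over (Spec (CommRingCat.of k))} [GrpObj T]
    (hT : Red.IsTorus T) (φ : SpecOver k (ConstGrp.F k (Multiplicative (ZMod p))) ⟶ T) [IsMonHom φ] : ¬ Mono φ := by
  intro hm
  have hmul : ∀ a b : Multiplicative (ZMod p),
      (WithConv.toConv (ConstGrp.ev k (a * b)) : Pt k (ConstGrp.F k (Multiplicative (ZMod p)))) =
      WithConv.toConv (ConstGrp.ev k a) * WithConv.toConv (ConstGrp.ev k b) := by
    intro a b
    apply Pt.ext'
    intro f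
    rw [Pt.mul_apply, ConstGrp.comul_eq_sum]
    simp only [map_sum, map_smul, Algebra.TensorProduct.lift_tmul]
    change f (a * b) = ∑ x, ∑ y, f (x * y) • (ConstGrp.e k x a * ConstGrp.e k y b)
    rw [Finset.sum_eq_single a, Finset.sum_eq_single b]
    · simp
    · intro y _ hy
      rw [ConstGrp.e_apply_of_ne (Ne.symm hy), mul_zero, smul_zero]
    · intro h
      exact absurd (Finset.mem_univ _) h
    · intro x _ hx
      refine Finset.sum_eq_zero fun y _ => ?_
      rw [ConstGrp.e_apply_of_ne (Ne.symm hx), zero_mul, smul_zero]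
    · intro h
      exact absurd (Finset.mem_univ _) h
  let P : Multiplicative (ZMod p) →*
      (𝟙_ (Over (Spec (CommRingCat.of k))) ⟶ SpecOver k (ConstGrp.F k (Multiplicative (ZMod p)))) :=
    MonoidHom.mk' (fun a => ptEquiv k _ (WithConv.toConv (ConstGrp.ev k a))) (fun a b => by
      rw [hmul, map_mul])
  let g : Multiplicative (ZMod p) := Multiplicative.ofAdd 1
  have hg : g ^ p = 1 := by
    rw [← ofAdd_nsmul]
    simp
  have h1 : (P g ≫ φ) ^ p = 1 := by
    rw [← MonObj.pow_comp, ← map_pow, hg, map_one, MonObj.one_comp]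
  have h2 := eq_one_of_pow p hT _ h1
  have h3 : P g = P 1 := by
    rw [← cancel_mono φ, h2, map_one, MonObj.one_comp]
  have h4 : ConstGrp.ev k g = ConstGrp.ev k 1 := WithConv.toConv_injective ((ptEquiv k _).injective h3)
  have h5 : ConstGrp.e k g g = ConstGrp.e k g 1 := DFunLike.congr_fun h4 (ConstGrp.e k g)
  have hne : (1 : Multiplicative (ZMod p)) ≠ g := by
    intro h
    have h6 : (0 : ZMod p) = 1 := Multiplicative.ofAdd.injective h
    have : Fact (1 < p) := ⟨(Fact.out : p.Prime).one_lt⟩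
    exact zero_ne_one h6
  rw [ConstGrp.e_apply_self, ConstGrp.e_apply_of_ne hne] at h5
  exact one_ne_zero h5

end torus

end K501.NoUnip
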