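import Groth.Agent.AGF.K501.BcPts
import Groth.Agent.Sga3B.SplitBc264
import Groth.Agent.Sga3B.RadOpen.PtTorus
import Groth.Agent.Agf.H611.NilPts

/-!
# Normalizers and points

* `isNormalizerOf_bc`: base change of normalizers;
* `ptsSub_normalizer`: the points of the normalizer of a smooth closed subgroup;
* `gmPts_normalizer`: the same over a field and its algebraically closed extensions;
* `isUnip_of_hasNoSubtorus_bc`.
-/

set_option autoImplicit false
set_option linter.unusedSectionVars false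

universe u

open CategoryTheory MonoidalCategory CartesianMonoidalCategory MonObj GrpObj AlgebraicGeometry Limits
open Groth.Agent.Books.AffBridge Groth.Agent.Books.AffBridge2
open TensorProduct WithConv
open Groth.Agent.Sga3B Groth.Agent.Sga3B.RG Groth.Agent.Sga3B.RG.BrPts Groth.Agent.Sga3B.RootBridge989
  Groth.Agent.Sga3B.RG.BcPt Groth.Agent.Sga3B.Parab.BorelPts172
open Groth.Agent.Agf.H604.BcSub Groth.Agent.Agf.H582.ConjDict K501.BcPts

namespace K501.NormPts

section Bc

open Groth.Agent.Sga3B.RedIso Groth.Agent.Sga3B.BcNat Groth.Agent.Sga3B.DSPts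

variable {S S' : Scheme.{u}} (f : S' ⟶ S) {H G Z : Over S} [GrpObj H] [GrpObj G] [GrpObj Z]

/-- **Base change of normalizers.** -/
theorem isNormalizerOf_bc {i : H ⟶ G} {j : Z ⟶ G} (h : Red.IsNormalizerOf i j) :
    Red.IsNormalizerOf ((Over.pullback f).map i) ((Over.pullback f).map j) := by
  obtain ⟨h1, h2, h3⟩ := h
  refine ⟨inferInstance, inferInstance, fun X g => ⟨?_, fun hg => ?_⟩⟩
  · rintro ⟨z, rfl⟩ X' x h'
    have h4 := (h3 ((Over.map f).obj X) ((bcEquiv f X Z).symm z ≫ j)).mp ⟨_, rfl⟩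
      ((Over.map f).obj X') ((Over.map f).map x) ((bcEquiv f X' H).symm h')
    have h6 : bcEquiv f X' G ((bcEquiv f X' H).symm h' ≫ i) = h' ≫ (Over.pullback f).map i := by
      rw [← bcEquiv_comp, MulEquiv.apply_symm_apply]
    have h7 : bcEquiv f X' G ((Over.map f).map x ≫ (bcEquiv f X Z).symm z ≫ j) =
        x ≫ z ≫ (Over.pullback f).map j := by
      rw [← bcEquiv_naturality, ← bcEquiv_comp, MulEquiv.apply_symm_apply]
    obtain ⟨⟨a, ha⟩, ⟨b, hb⟩⟩ := h4
    refine ⟨⟨bcEquiv f X' H a, ?_⟩, ⟨bcEquiv f X' H b, ?_⟩⟩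
    · rw [bcEquiv_comp, ← ha, map_mul, map_mul, map_inv, h6, h7]
    · rw [bcEquiv_comp, ← hb, map_mul, map_mul, map_inv, h6, h7]
  · obtain ⟨z, hz⟩ := (h3 ((Over.map f).obj X) ((bcEquiv f X G).symm g)).mpr (by
      intro X' x h'
      let X₁ : Over S' := Over.mk (x.left ≫ X.hom)
      let x₁ : X₁ ⟶ X := Over.homMk x.left rfl
      let ε : (Over.map f).obj X₁ ≅ X' := Over.isoMk (Iso.refl _) (by
        have := Over.w x
        simp only [Over.map_obj_hom] at this
        simp [X₁, this])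
      have h4 := hg X₁ x₁ (bcEquiv f X₁ H (ε.hom ≫ h'))
      have h5 : x₁ ≫ g = bcEquiv f X₁ G (ε.hom ≫ x ≫ (bcEquiv f X G).symm g) := by
        have h6 : ε.hom ≫ x = (Over.map f).map x₁ := by
          ext1
          simp [ε, x₁]
        rw [← Category.assoc, h6, ← bcEquiv_naturality, MulEquiv.apply_symm_apply]
      rw [bcEquiv_comp, h5, ← map_mul, ← map_inv, ← map_mul, ← map_mul, ← map_mul] at h4
      obtain ⟨⟨a, ha⟩, ⟨b, hb⟩⟩ := h4
      have h7 : ∀ a : X₁ ⟶ Red.bc f H, a ≫ (Over.pullback f).map i =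
          bcEquiv f X₁ G ((bcEquiv f X₁ H).symm a ≫ i) := by
        intro a
        rw [← bcEquiv_comp, MulEquiv.apply_symm_apply]
      rw [h7] at ha hb
      have ha' := (bcEquiv f X₁ G).injective ha
      have hb' := (bcEquiv f X₁ G).injective hb
      rw [Category.assoc, ← GrpObj.comp_inv, ← MonObj.comp_mul, ← MonObj.comp_mul] at ha' hb'
      refine ⟨⟨ε.inv ≫ (bcEquiv f X₁ H).symm a, ?_⟩, ⟨ε.inv ≫ (bcEquiv f X₁ H).symm b, ?_⟩⟩
      · rw [Category.assoc, ← ha', Iso.inv_hom_id_assoc]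
      · rw [Category.assoc, ← hb', Iso.inv_hom_id_assoc])
    refine ⟨bcEquiv f X Z z, ?_⟩
    rw [bcEquiv_comp, hz, MulEquiv.apply_symm_apply]

end Bc

section AC

variable {K : Type u} [Field K] [IsAlgClosed K] {B : Type u} [CommRing B] [HopfAlgebra K B]
  [Algebra.FiniteType K B]

/-- **The points of the normalizer** of a smooth closed subgroup. -/
theorem ptsSub_normalizer {U N : Over (Spec (CommRingCat.of K))} [GrpObj U] [GrpObj N]
    (i : U ⟶ SpecOver K B) [IsMonHom i] [IsClosedImmersion i.left] [Smooth U.hom]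
    (n : N ⟶ SpecOver K B) [IsMonHom n] (hn : Red.IsNormalizerOf i n) :
    ptsSub n = Subgroup.normalizer (ptsSub i : Set (Pt K B)) := by
  have hmi : Mono i := Groth.Agent.Books.AlgPtsGrp.mono_of_isClosedImmersion i
  apply le_antisymm
  · rintro g ⟨x, hx⟩
    have h1 := (hn.2.2 (𝟙_ _) (ptEquiv K B g)).1 ⟨x, hx⟩ (𝟙_ _) (𝟙 _)
    rw [Subgroup.mem_normalizer_iff]
    intro y
    constructor
    · rintro ⟨m, hm⟩
      obtain ⟨⟨h', hh'⟩, -⟩ := h1 m
      refine ⟨h', ?_⟩
      rw [← hh', hm, Category.id_comp, map_mul, map_mul, map_inv]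
    · rintro ⟨m, hm⟩
      obtain ⟨-, ⟨h', hh'⟩⟩ := h1 m
      refine ⟨h', ?_⟩
      rw [← hh', hm, Category.id_comp, map_mul, map_mul, map_inv]
      group
  · have key : ∀ g ∈ Subgroup.normalizer (ptsSub i : Set (Pt K B)),
        ∃ f : U ⟶ U, f ≫ i = AGF.conjBy (ptEquiv K B g) i := by
      intro g hg
      refine exists_factor_of_le (AGF.conjBy (ptEquiv K B g) i) i ?_
      rw [ptsSub_conjBy]
      rintro _ ⟨y, hy, rfl⟩
      exact (Subgroup.mem_normalizer_iff.1 hg y).1 hy
    intro g hg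
    obtain ⟨f, hf⟩ := key g hg
    obtain ⟨f', hf'⟩ := key g⁻¹ (inv_mem hg)
    refine (hn.2.2 (𝟙_ _) (ptEquiv K B g)).2 fun X' x h => ⟨⟨h ≫ f, ?_⟩, ⟨h ≫ f', ?_⟩⟩
    · rw [Category.assoc, hf, comp_conjBy, toUnit_unique x (toUnit X')]
    · rw [Category.assoc, hf', comp_conjBy, toUnit_unique x (toUnit X'), map_inv, GrpObj.comp_inv,
        _root_.inv_inv]

end AC

section Field

variable {k K : Type u} [Field k] [Field K] [Algebra k K] [IsAlgClosed K] {A : Type u} [CommRing A]
  [HopfAlgebra k A] [Algebra.FiniteType k A] {G U N : Over (Spec (CommRingCat.of k))}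
  [GrpObj G] [GrpObj U] [GrpObj N]

/-- **The geometric points of the normalizer** of a smooth closed subgroup. -/
theorem gmPts_normalizer (e : G ≅ SpecOver k A) [IsMonHom e.hom] (i : U ⟶ G) [IsMonHom i]
    [IsClosedImmersion i.left] [Smooth U.hom] (n : N ⟶ G) [IsMonHom n]
    (hn : Red.IsNormalizerOf i n) :
    gmPts K e n = Subgroup.normalizer (gmPts K e i : Set (Pt K (K ⊗[k] A))) := by
  have h1 := isClosedImmersion_gm (K := K) e i inferInstance
  have h2 : Smooth (Red.bc (sm k K) U).hom := by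
    change Smooth (Limits.pullback.snd _ _)
    infer_instance
  refine ptsSub_normalizer (B := K ⊗[k] A) (gm K e i) (gm K e n) ?_
  have h3 := isNormalizerOf_bc (sm k K) hn
  refine ⟨inferInstance, ?_, fun X g => ?_⟩
  · have := h3.2.1
    rw [gm]
    infer_instance
  · have h4 := h3.2.2 X (g ≫ (eK K e).inv)
    have hinv : IsMonHom (eK K e).inv := inferInstance
    rw [gm, gm]
    constructor
    · rintro ⟨z, hz⟩ X' x h
      obtain ⟨⟨a, ha⟩, ⟨b, hb⟩⟩ := h4.1 ⟨z, by rw [← hz, Category.assoc, Category.assoc,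
        Iso.hom_inv_id, Category.comp_id]⟩ X' x h
      refine ⟨⟨a, ?_⟩, ⟨b, ?_⟩⟩
      · rw [← Category.assoc a, ← ha, MonObj.mul_comp, MonObj.mul_comp, GrpObj.inv_comp]
        simp only [Category.assoc, Iso.inv_hom_id, Category.comp_id]
      · rw [← Category.assoc b, ← hb, MonObj.mul_comp, MonObj.mul_comp, GrpObj.inv_comp]
        simp only [Category.assoc, Iso.inv_hom_id, Category.comp_id]
    · intro hg
      obtain ⟨z, hz⟩ := h4.2 (by
        intro X' x h
        obtain ⟨⟨a, ha⟩, ⟨b, hb⟩⟩ := hg X' x h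
        refine ⟨⟨a, ?_⟩, ⟨b, ?_⟩⟩
        · rw [← cancel_mono (eK K e).hom, MonObj.mul_comp, MonObj.mul_comp, GrpObj.inv_comp]
          simp only [Category.assoc, Iso.inv_hom_id, Category.comp_id]
          exact ha
        · rw [← cancel_mono (eK K e).hom, MonObj.mul_comp, MonObj.mul_comp, GrpObj.inv_comp]
          simp only [Category.assoc, Iso.inv_hom_id, Category.comp_id]
          exact hb)
      exact ⟨z, by rw [← Category.assoc, hz, Category.assoc, Iso.inv_hom_id, Category.comp_id]⟩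

/-- Geometric points of groups without subtori are unipotent. -/
theorem isUnip_of_hasNoSubtorus_bc (e : G ≅ SpecOver k A) [IsMonHom e.hom] [Smooth G.hom]
    (hc : ConnectedSpace (Red.bc (sm k K) G).left)
    (h : Red.HasNoSubtorus K (Red.bc (sm k K) G)) (g : Pt K (K ⊗[k] A)) : IsUnip g := by
  have h2 : Smooth (Red.bc (sm k K) G).hom := by
    change Smooth (Limits.pullback.snd _ _)
    infer_instance
  have h3 : IsIso (eK K e).hom.left := inferInstanceAs (IsIso ((Over.forget _).map (eK K e).hom))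
  refine Groth.Agent.Sga3B.RadOpen.isUnip_of_hasNoSubtorus (A := K ⊗[k] A) (eK K e).hom h g ?_
  exact ⟨ptEquiv K (K ⊗[k] A) g ≫ (eK K e).inv, by rw [Category.assoc, Iso.inv_hom_id,
    Category.comp_id]⟩

end Field

end K501.NormPts
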