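import Groth.Agent.S3908
import Groth.Agent.Sga3B.CentSmooth
import Groth.Agent.SGA3.K205.Transporter
import Groth.Agent.Pi1.H384.GeomConn
import Groth.Agent.Agf.H614.FieldGlue
import Groth.Agent.Sga3B.MaxTorNear900

/-!
# Fixed points of a torus acting by conjugation on a normalised smooth connected subgroup

`exists_semi` : the semidirect product `A ⋊ B`, as a subgroup of `G ⊗ B`; `smooth_of_retract`;
`smooth_connected` : `H ∩ Z_G(S)` is smooth and connected if the torus `S` normalises the smooth connected `H`.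
-/

set_option autoImplicit false
universe v u
open CategoryTheory MonoidalCategory CartesianMonoidalCategory MonObj GrpObj

namespace K501.SemiTor

section semi

variable {C : Type u} [Category.{v} C] [CartesianMonoidalCategory C] [BraidedCategory C]

/-- The semidirect product `A ⋊ B` as the subgroup `{(x y, y)}` of `G ⊗ B`. -/
theorem exists_semi {G A B : C} [GrpObj G] [GrpObj A] [GrpObj B] (a : A ⟶ G) [IsMonHom a]
    [Mono a] (b : B ⟶ G) [IsMonHom b]
    (hN : ∀ (T : C) (y : T ⟶ B) (x : T ⟶ A), ∃ x' : T ⟶ A,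
      (y ≫ b) * (x ≫ a) * (y ≫ b)⁻¹ = x' ≫ a) :
    ∃ (P : C) (_ : GrpObj P) (m : P ⟶ G ⊗ B) (e : A ⊗ B ≅ P), IsMonHom m ∧ Mono m ∧
      e.hom ≫ m = lift ((fst A B ≫ a) * (snd A B ≫ b)) (snd A B) := by
  obtain ⟨P, ⟨e⟩⟩ : ∃ P : C, Nonempty (A ⊗ B ≅ P) := ⟨A ⊗ B, ⟨Iso.refl _⟩⟩
  let n : A ⊗ B ⟶ G ⊗ B := lift ((fst A B ≫ a) * (snd A B ≫ b)) (snd A B)
  have hn : ∀ (T : C) (z : T ⟶ G ⊗ B), (∃ w : T ⟶ A ⊗ B, w ≫ n = z) ↔
      ∃ x : T ⟶ A, x ≫ a = (z ≫ fst G B) * (z ≫ snd G B ≫ b)⁻¹ := by
    intro T z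
    constructor
    · rintro ⟨w, rfl⟩
      refine ⟨w ≫ fst A B, ?_⟩
      simp only [n, Category.assoc, lift_fst, lift_snd_assoc, comp_mul, mul_inv_cancel_right]
    · rintro ⟨x, hx⟩
      refine ⟨lift x (z ≫ snd G B), ?_⟩
      ext1
      · simp only [n, Category.assoc, lift_fst, comp_mul, lift_fst_assoc, lift_snd_assoc]
        rw [hx, inv_mul_cancel_right]
      · simp [n]
  have hmono : Mono n := by
    constructor
    intro T w w' h
    have h1 : w ≫ snd A B = w' ≫ snd A B := by
      have := congrArg (· ≫ snd G B) h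
      simpa [n] using this
    have h2 := congrArg (· ≫ fst G B) h
    simp only [n, Category.assoc, lift_fst, comp_mul] at h2
    rw [← Category.assoc w (snd A B), h1, Category.assoc] at h2
    have h3 := mul_right_cancel h2
    rw [← Category.assoc, ← Category.assoc, cancel_mono] at h3
    ext1
    · exact h3
    · exact h1
  have hn' : ∀ (T : C) (z : T ⟶ G ⊗ B), (∃ w : T ⟶ P, w ≫ e.inv ≫ n = z) ↔
      ∃ x : T ⟶ A, x ≫ a = (z ≫ fst G B) * (z ≫ snd G B ≫ b)⁻¹ := by
    intro T z
    rw [← hn]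
    exact ⟨fun ⟨w, hw⟩ => ⟨w ≫ e.inv, by rw [Category.assoc, hw]⟩,
      fun ⟨w, hw⟩ => ⟨w ≫ e.hom, by rw [Category.assoc, e.hom_inv_id_assoc, hw]⟩⟩
  have hmono' : Mono (e.inv ≫ n) := inferInstance
  obtain ⟨hg, hm⟩ := K205.Transporter.exists_grpObj_of_mem (e.inv ≫ n)
    ((hn' _ _).mpr ⟨1, by
      rw [one_comp, one_eq_one, one_comp, one_comp]; group⟩)
    (fun {T} z z' hz hz' => (hn' _ _).mpr (by
      rw [hn'] at hz hz'
      obtain ⟨x, hx⟩ := hz
      obtain ⟨x', hx'⟩ := hz'
      obtain ⟨x'', hx''⟩ := hN T (z ≫ snd G B) x'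
      refine ⟨x * x'', ?_⟩
      rw [mul_comp, hx, ← hx'', hx', mul_comp, mul_comp, Category.assoc]
      group))
    (fun {T} z hz => (hn' _ _).mpr (by
      rw [hn'] at hz
      obtain ⟨x, hx⟩ := hz
      obtain ⟨x', hx'⟩ := hN T (z⁻¹ ≫ snd G B) x⁻¹
      refine ⟨x', ?_⟩
      rw [← hx', GrpObj.inv_comp x, hx, Category.assoc, GrpObj.inv_comp z, GrpObj.inv_comp z]
      group))
  refine ⟨P, hg, e.inv ≫ n, e, hm, hmono', ?_⟩
  rw [e.hom_inv_id_assoc]

end semi

section retract

open AlgebraicGeometry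

theorem formallySmooth_of_retract {R A B : Type u} [CommRing R] [CommRing A] [CommRing B] [Algebra R A]
    [Algebra R B] (i : A →ₐ[R] B) (r : B →ₐ[R] A) (h : r.comp i = AlgHom.id R A) [Algebra.FormallySmooth R B] :
    Algebra.FormallySmooth R A := by
  refine Algebra.FormallySmooth.of_comp_surjective fun C _ _ I hI f => ?_
  obtain ⟨g, hg⟩ := Algebra.FormallySmooth.comp_surjective R B I hI (f.comp r)
  refine ⟨g.comp i, ?_⟩
  have h1 : (Ideal.Quotient.mkₐ R I).comp (g.comp i) = ((Ideal.Quotient.mkₐ R I).comp g).comp i := rfl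
  rw [h1, hg, AlgHom.comp_assoc, h, AlgHom.comp_id]

/-- A retract of a smooth affine scheme over a field is smooth. -/
theorem smooth_of_retract {k : Type u} [Field k] {X Y : Scheme.{u}} [IsAffine X] [IsAffine Y]
    (f : X ⟶ Spec (CommRingCat.of k)) (g : Y ⟶ Spec (CommRingCat.of k)) [hg : Smooth g] (i : X ⟶ Y) (r : Y ⟶ X)
    (hi : i ≫ g = f) (hr : r ≫ f = g) (h : i ≫ r = 𝟙 X) : Smooth f := by
  rw [HasRingHomProperty.iff_of_isAffine (P := @Smooth)] at hg ⊢
  have hni : IsNoetherianRing Γ(Spec (CommRingCat.of k), ⊤) :=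
    isNoetherianRing_of_ringEquiv k (Scheme.ΓSpecIso (CommRingCat.of k)).symm.commRingCatIsoToRingEquiv
  algebraize [f.appTop.hom, g.appTop.hom]
  let i' : Γ(Y, ⊤) →ₐ[Γ(Spec (CommRingCat.of k), ⊤)] Γ(X, ⊤) :=
    { i.appTop.hom with
      commutes' := fun x => by
        have h1 := congrArg (fun φ => φ.appTop.hom x) hi
        simp only [Scheme.Hom.comp_appTop] at h1
        exact h1 }
  let r' : Γ(X, ⊤) →ₐ[Γ(Spec (CommRingCat.of k), ⊤)] Γ(Y, ⊤) :=
    { r.appTop.hom with
      commutes' := fun x => by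
        have h1 := congrArg (fun φ => φ.appTop.hom x) hr
        simp only [Scheme.Hom.comp_appTop] at h1
        exact h1 }
  have h2 : i'.comp r' = AlgHom.id _ _ := by
    apply AlgHom.ext
    intro x
    have h1 := congrArg (fun φ => φ.appTop.hom x) h
    simp only [Scheme.Hom.comp_appTop, Scheme.Hom.id_appTop] at h1
    exact h1
  have h3 : Algebra.Smooth Γ(Spec (CommRingCat.of k), ⊤) Γ(Y, ⊤) := hg
  have h4 := formallySmooth_of_retract r' i' h2
  have h5 : Function.Surjective i' := fun x => ⟨r' x, DFunLike.congr_fun h2 x⟩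
  have h6 : Algebra.FiniteType Γ(Spec (CommRingCat.of k), ⊤) Γ(X, ⊤) :=
    Algebra.FiniteType.of_surjective i' h5
  have h7 : Algebra.FinitePresentation Γ(Spec (CommRingCat.of k), ⊤) Γ(X, ⊤) :=
    Algebra.FinitePresentation.of_finiteType.1 h6
  exact (⟨h4, h7⟩ : Algebra.Smooth Γ(Spec (CommRingCat.of k), ⊤) Γ(X, ⊤))

end retract

section main

open AlgebraicGeometry Limits

variable {k : Type u} [Field k] {G S C H I : Over (Spec (CommRingCat.of k))} [GrpObj G] [GrpObj S] [GrpObj C]
  [GrpObj H]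

/-- **`H ∩ Z_G(S)` is smooth and connected** for a torus `S` normalising a smooth connected closed subgroup `H`. -/
theorem smooth_connected [IsAffine G.left] (iS : S ⟶ G) [IsMonHom iS] (hS : Red.IsTorus S)
    {c : C ⟶ G} (hc : Red.IsCentralizerOf iS c) (j : H ⟶ G) [IsMonHom j] [IsClosedImmersion j.left]
    [Smooth H.hom] [ConnectedSpace H.left]
    (hnorm : ∀ (X : Over (Spec (CommRingCat.of k))) (s : X ⟶ S) (h : X ⟶ H), ∃ h' : X ⟶ H,
      (s ≫ iS) * (h ≫ j) * (s ≫ iS)⁻¹ = h' ≫ j)
    {p : I ⟶ C} {q : I ⟶ H} (hI : IsPullback p q c j) : Smooth I.hom ∧ ConnectedSpace I.left := by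
  have hSm : Smooth S.hom := Groth.Agent.Sga3B.TorusAlgClosed.smooth_of_isTorus hS
  have hSah : IsAffineHom S.hom := Groth.Agent.Sga3B.TorusAlgClosed.isAffineHom_of_isTorus hS
  have hSa : IsAffine S.left := isAffine_of_isAffineHom S.hom
  have hSi : GeometricallyIrreducible S.hom := Groth.Agent.Sga3B.TorusIrr.geometricallyIrreducible_of_isTorus hS
  have hHa : IsAffine H.left := isAffine_of_isAffineHom j.left
  have hmj : Mono j := Over.mono_of_mono_left j
  have hmc : Mono c := hc.2.1
  obtain ⟨P, _, m, e, hm, hmono, he⟩ := exists_semi j iS (fun T y x => hnorm T y x)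
  have he' : e.inv ≫ lift ((fst H S ≫ j) * (snd H S ≫ iS)) (snd H S) = m := by
    rw [← he, e.inv_hom_id_assoc]
  -- geometry of `P`
  have hel : IsIso e.hom.left := inferInstanceAs (IsIso ((Over.forget _).map e.hom))
  have hei : IsIso e.inv.left := inferInstanceAs (IsIso ((Over.forget _).map e.inv))
  have hHSa : IsAffine (H ⊗ S).left := inferInstanceAs (IsAffine (pullback H.hom S.hom))
  have hPa : IsAffine P.left := IsAffine.of_isIso e.inv.left
  have hHSm : Smooth (H ⊗ S).hom := by
    have h1 : (H ⊗ S).hom = pullback.fst H.hom S.hom ≫ H.hom := rfl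
    rw [h1]
    infer_instance
  have hPm : Smooth P.hom := by
    rw [← Over.w e.inv]
    infer_instance
  have hPc : ConnectedSpace P.left := by
    have h1 : ConnectedSpace (H ⊗ S).left := by
      have h2 : GeometricallyConnected S.hom :=
        Groth.Agent.Pi1.H384.GeomConn.geometricallyConnected_of_geometricallyIrreducible _
      exact Groth.Agent.Pi1.H384.GeomConn.connectedSpace_pullback H.hom S.hom
    exact (Scheme.homeoOfIso (asIso e.hom.left)).surjective.connectedSpace
      (Scheme.homeoOfIso (asIso e.hom.left)).continuous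
  -- the torus
  let d : S ⟶ P := lift 1 (𝟙 S) ≫ e.hom
  have hd : d ≫ m = lift iS (𝟙 S) := by
    simp only [d, Category.assoc, he]
    ext1
    · simp only [Category.assoc, lift_fst, comp_mul, lift_fst_assoc, lift_snd_assoc, Category.id_comp]
      rw [one_comp, _root_.one_mul]
    · simp
  have hdm : IsMonHom d := by
    apply Groth.Agent.Sga3B.Pts.isMonHom_of_points
    intro W x y
    have h1 : ∀ a : W ⟶ S, (a ≫ d) ≫ m = lift (a ≫ iS) a := fun a => by
      rw [Category.assoc, hd, comp_lift, Category.comp_id]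
    rw [← cancel_mono m, mul_comp (x ≫ d) (y ≫ d) m, h1, h1, h1]
    ext1
    · simp only [lift_fst, mul_comp]
    · simp only [lift_snd, mul_comp]
  have hdid : d ≫ m ≫ snd G S = 𝟙 S := by
    rw [← Category.assoc, hd, lift_snd]
  have hdmono : Mono d := by
    have : Mono (d ≫ m ≫ snd G S) := by rw [hdid]; infer_instance
    exact mono_of_mono d (m ≫ snd G S)
  have hdc : IsClosedImmersion d.left := by
    have h1 : d.left ≫ (m ≫ snd G S).left = 𝟙 _ := by
      rw [← Over.comp_left, hdid]; rfl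
    have h2 : IsSeparated (m ≫ snd G S).left := by
      have : IsSeparated ((m ≫ snd G S).left ≫ S.hom) := by
        rw [Over.w]; infer_instance
      exact IsSeparated.of_comp _ S.hom
    have h3 : IsClosedImmersion (d.left ≫ (m ≫ snd G S).left) := by rw [h1]; infer_instance
    exact IsClosedImmersion.of_comp d.left (m ≫ snd G S).left
  obtain ⟨Z, _, z, hz, hzc, hZs, -⟩ := Groth.Agent.Sga3B.CentSmooth.exists_smooth_centralizer d hS
  have hZc : ConnectedSpace Z.left := Groth.Agent.S3908.result k P S d hS Z z hz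
  have hzmono : Mono z := hz.2.1
  have hZa : IsAffine Z.left := isAffine_of_isAffineHom z.left
  have hScomm : ∀ {T : Over (Spec (CommRingCat.of k))} (x y : T ⟶ S), x * y = y * x := fun x y =>
    Groth.Agent.Sga3B.MaxTorNear900.mul_comm_of_isTorus hS _ x y
  -- the inclusion of `I`
  let g : I ⟶ P := lift q 1 ≫ e.hom
  have hg : g ≫ m = lift (q ≫ j) 1 := by
    simp only [g, Category.assoc, he]
    ext1
    · simp only [Category.assoc, lift_fst, comp_mul, lift_fst_assoc, lift_snd_assoc]
      rw [one_comp, _root_.mul_one]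
    · simp
  obtain ⟨inc, hinc⟩ := (hz.2.2 I g).2 (by
    intro X' x s
    rw [← cancel_mono m, mul_comp, mul_comp]
    simp only [Category.assoc, hd, hg]
    ext1
    · simp only [mul_comp, Category.assoc, lift_fst]
      rw [← hI.w]
      have h1 := (hc.2.2 I (p ≫ c)).1 ⟨p, rfl⟩ X' x s
      simpa using h1
    · simp only [mul_comp, Category.assoc, lift_snd, Category.comp_id, comp_one, _root_.one_mul, _root_.mul_one])
  -- the retraction
  let h : Z ⟶ H := z ≫ e.inv ≫ fst H S
  let σ : Z ⟶ S := z ≫ e.inv ≫ snd H S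
  have hzm : z ≫ m = lift ((h ≫ j) * (σ ≫ iS)) σ := by
    rw [← he']
    ext1
    · simp only [h, σ, Category.assoc, lift_fst, comp_mul]
    · simp only [σ, Category.assoc, lift_snd]
  obtain ⟨w, hw⟩ := (hc.2.2 Z (h ≫ j)).2 (by
    intro X' x s
    have h1 := (hz.2.2 Z z).1 ⟨𝟙 Z, Category.id_comp z⟩ X' x s
    have h2 := congrArg (· ≫ m ≫ fst G S) h1
    have h3 : (s ≫ d) ≫ m ≫ fst G S = s ≫ iS := by
      rw [Category.assoc, ← Category.assoc d, hd, lift_fst]
    have h4 : (x ≫ z) ≫ m ≫ fst G S = (x ≫ h ≫ j) * (x ≫ σ ≫ iS) := by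
      rw [Category.assoc, ← Category.assoc z, hzm, lift_fst, comp_mul]
    have h5 : ∀ a b : X' ⟶ P, (a * b) ≫ m ≫ fst G S = (a ≫ m ≫ fst G S) * (b ≫ m ≫ fst G S) := fun a b => by
      rw [← Category.assoc, mul_comp, mul_comp, Category.assoc, Category.assoc]
    simp only [h5, h3, h4] at h2
    have h6 : (x ≫ σ ≫ iS) * (s ≫ iS) = (s ≫ iS) * (x ≫ σ ≫ iS) := by
      rw [← Category.assoc, ← mul_comp, ← mul_comp, hScomm]
    rw [_root_.mul_assoc, h6, ← _root_.mul_assoc, ← _root_.mul_assoc] at h2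
    exact mul_right_cancel h2)
  let r : Z ⟶ I := hI.lift w h hw
  have hinc' : inc ≫ r = 𝟙 I := by
    have h1 : (inc ≫ r) ≫ q = q := by
      rw [Category.assoc, hI.lift_snd, ← Category.assoc, hinc]
      simp only [g, Category.assoc, e.hom_inv_id_assoc, lift_fst]
    apply hI.hom_ext
    · rw [← cancel_mono c, Category.assoc, Category.assoc, hI.w, Category.id_comp, hI.w, ← Category.assoc, ← Category.assoc, h1]
    · rw [h1, Category.id_comp]
  have hl : inc.left ≫ r.left = 𝟙 _ := by
    rw [← Over.comp_left, hinc']; rfl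
  have hrsep : IsSeparated r.left := by
    have : IsSeparated (r.left ≫ I.hom) := by
      rw [Over.w]; infer_instance
    exact IsSeparated.of_comp _ I.hom
  have hcl : IsClosedImmersion inc.left := by
    have h3 : IsClosedImmersion (inc.left ≫ r.left) := by rw [hl]; infer_instance
    exact IsClosedImmersion.of_comp inc.left r.left
  have hIa : IsAffine I.left := isAffine_of_isAffineHom inc.left
  constructor
  · exact smooth_of_retract I.hom Z.hom inc.left r.left (Over.w inc) (Over.w r) hl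
  · have hsurj : Function.Surjective r.left := fun x => ⟨inc.left x, by
      rw [← Scheme.Hom.comp_apply, hl]; rfl⟩
    exact hsurj.connectedSpace r.left.continuous

end main

end K501.SemiTor
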