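import Groth.Prelude.Def_AGF
import Groth.Agent.Sga3B.RootFinal136
import Groth.Agent.Sga3B.IsomLocal2
import Groth.Agent.Sga3B.SplitIso848
import Groth.Agent.Sga3B.Parab.TorRank156
import Groth.Agent.Sga3B.PinTransport
import Groth.Agent.Sga3B.PinModelOf
import Groth.Agent.Sga3B.KerGrp
import Groth.Agent.RedSub.H654.SchemeChar
import Groth.Agent.RedSub.H654.RootNN
import Groth.Agent.S2962

/-!
# Weyl-invariant characters of the maximal torus of a split group over a field
-/

set_option autoImplicit false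
set_option linter.unusedSectionVars false

universe u

open CategoryTheory MonoidalCategory CartesianMonoidalCategory MonObj GrpObj AlgebraicGeometry Limits
open Groth.Agent.Sga3B Groth.Agent.Sga3B.PinFinal

namespace K501.WeylChar

variable {k : Type u} [Field k] {G : Over (Spec (CommRingCat.of k))} [GrpObj G]

/-- Characters of the torus of a splitting. -/
theorem exists_eq_chi (D : Red.SplitRed G) (χ : D.T ⟶ Red.Gm (Spec (CommRingCat.of k)))
    [IsMonHom χ] : ∃ m : D.M, χ = D.split.hom.hom.hom ≫ Red.chi _ m := by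
  have h0 : IsMonHom D.split.inv.hom.hom := D.split.inv.hom.isMonHom_hom
  have h1 : IsMonHom (D.split.inv.hom.hom ≫ χ) := inferInstance
  obtain ⟨φ, hφ⟩ := DSRigid.exists_eq_DSmap (D.split.inv.hom.hom ≫ χ)
  refine ⟨φ 1, ?_⟩
  have h2 : Red.chi (Spec (CommRingCat.of k)) (φ 1) = D.split.inv.hom.hom ≫ χ := by
    rw [hφ, Red.chi]
    congr 1
    ext
    simp
  have h3 : D.split.hom.hom.hom ≫ D.split.inv.hom.hom = 𝟙 D.T :=
    ((Grp.forget _).mapIso D.split).hom_inv_id
  rw [h2, ← Category.assoc, h3, Category.id_comp]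

/-- Weyl-invariant characters are orthogonal to the coroots. -/
theorem coroot_eq_zero (D : Red.SplitRed G) (m : D.M)
    (h : ∀ (n : 𝟙_ (Over (Spec (CommRingCat.of k))) ⟶ G) (φ : D.T ⟶ D.T),
      φ ≫ D.i = AGF.conjBy n D.i →
      φ ≫ D.split.hom.hom.hom ≫ Red.chi _ m = D.split.hom.hom.hom ≫ Red.chi _ m) (a : D.idx) :
    D.P.coroot a m = 0 := by
  obtain ⟨n, hn⟩ := D.refl a
  have h1 := hn D.T (𝟙 _)
  rw [Category.id_comp, Category.id_comp] at h1
  have h2 := h n (D.split.hom.hom.hom ≫ Red.DSmap _ (D.P.reflection a).toLinearMap.toAddMonoidHom ≫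
    D.split.inv.hom.hom) (by
      rw [Category.assoc, Category.assoc]
      exact h1.symm)
  have h3 : D.split.inv.hom.hom ≫ D.split.hom.hom.hom = 𝟙 _ :=
    ((Grp.forget _).mapIso D.split).inv_hom_id
  have h4 : D.split.hom.hom.hom ≫ D.split.inv.hom.hom = 𝟙 D.T :=
    ((Grp.forget _).mapIso D.split).hom_inv_id
  have h5 : Red.chi (Spec (CommRingCat.of k)) (D.P.reflection a m) =
      Red.chi (Spec (CommRingCat.of k)) m := by
    have h6 := congrArg (fun z => D.split.inv.hom.hom ≫ z) h2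
    simp only [Category.assoc] at h6
    rw [reassoc_of% h3, reassoc_of% h3, PinTransport.DSmap_chi] at h6
    exact h6
  have h6 : D.P.reflection a m = m := by
    have h7 := Parab.TorRank156.DSmap_injective h5
    have h8 := DFunLike.congr_fun h7 (1 : ℤ)
    simpa using h8
  have h7 : D.P.coroot' a m • D.P.root a = 0 := by
    rw [D.P.reflection_apply] at h6
    rw [← sub_eq_zero] at h6
    simpa using h6
  have h8 : D.P.coroot' a m = 0 := by
    rcases smul_eq_zero.1 h7 with h9 | h9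
    · exact h9
    · exact absurd h9 (D.P.ne_zero a)
  have h9 : D.P.coroot' a m = D.P.coroot a m := by
    change D.P.toLinearMap m (D.P.coroot a) = _
    rw [D.pairing_eq]
    rfl
  rw [← h9, h8]

/-- Characters orthogonal to the coroots extend to the group. -/
theorem exists_char (D : Red.Pinning G) (m : D.M) (h : ∀ a, D.P.coroot a m = 0) :
    ∃ q : G ⟶ Red.Gm (Spec (CommRingCat.of k)), IsMonHom q ∧
      D.i ≫ q = D.split.hom.hom.hom ≫ Red.chi _ m := by
  obtain ⟨q, hq, hjq⟩ := Groth.Agent.RedSub.H654.SchemeChar.exists_char_of_models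
    (P := D.P) (b := D.base) (j := jOf D.toSplitRed) (u := D.u)
    (fun R _ s => PinModelOf.nonempty_pinModel D R s) (zmultiplesHom D.M m : ℤ →+ D.M) (by
      intro a _ n
      change D.P.coroot a (n • m) = 0
      rw [map_zsmul, h a, smul_zero])
  refine ⟨q, hq, ?_⟩
  have h4 : D.split.hom.hom.hom ≫ D.split.inv.hom.hom = 𝟙 D.T :=
    ((Grp.forget _).mapIso D.split).hom_inv_id
  change (D.split.inv.hom.hom ≫ D.i) ≫ q = Red.chi _ m at hjq
  rw [← hjq, Category.assoc, reassoc_of% h4]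

/-- Characters of the torus of a semisimple group orthogonal to the coroots are trivial. -/
theorem eq_zero_of_isSemisimple (D : Red.Pinning G) (hG : Red.IsSemisimple G) (m : D.M)
    (h : ∀ a, D.P.coroot a m = 0) : m = 0 := by
  have hne : Nonempty ↥(Spec (CommRingCat.of k)) := inferInstanceAs (Nonempty (PrimeSpectrum k))
  obtain ⟨n, hn, hm⟩ := BorSpan613.exists_zsmul_mem_span D.toSplitRed hG (fun X t ht h => by
    have := (Groth.Agent.S2962.result D.toSplitRed X (t ≫ D.i)).mpr ⟨t, rfl, ht⟩ X (𝟙 X) h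
    rwa [Category.id_comp] at this) m
  have h1 : n • m = 0 := Groth.Agent.RedSub.H654.RootNN.eq_zero_of_mem (b := D.base) D.pairing_eq
    (by
      intro a _
      rw [map_zsmul, h a, smul_zero]) hm
  exact (smul_eq_zero.1 h1).resolve_left hn

open Groth.Agent.Sga3B.DSPts in
/-- The character `0`. -/
lemma chi_zero (S : Scheme.{u}) (M : Type) [AddCommGroup M] : Red.chi S (0 : M) = 1 := by
  rw [← Category.id_comp (Red.chi S (0 : M)), ← dsEquiv_dsChar (𝟙 (Red.DS S M)), Red.chi,
    dsEquiv_DSmap]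
  have h : (dsChar (𝟙 (Red.DS S M))).comp (AddMonoidHom.toMultiplicative (zmultiplesHom M (0 : M)))
      = 1 := by
    ext
    simp
  rw [h, map_one]

/-- Maximal tori of reductive groups over an algebraically closed field come from pinnings. -/
theorem exists_pinning [IsAlgClosed k] (hG : Red.IsReductive G)
    {T : Over (Spec (CommRingCat.of k))} [GrpObj T] (iT : T ⟶ G) (hT : Red.IsMaximalTorus iT) :
    ∃ (D : Red.Pinning G) (e : D.T ≅ T), IsMonHom e.hom ∧ e.hom ≫ iT = D.i := by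
  obtain ⟨r, hr⟩ := TorusAlgClosed.exists_isSplitTorusWith hT.2.2.1
  obtain ⟨D₀, hDT, hDi, hDr⟩ := RootFinal136.exists_splitRed hG iT hT hr
  obtain ⟨D, hD⟩ := SplitIso848.nonempty_pinning D₀ hDr
  subst hD
  have key : ∀ (T₁ : Over (Spec (CommRingCat.of k))) (i₁ : T₁ ⟶ G), T₁ = T → HEq i₁ iT →
      ∃ e : T₁ ≅ T, e.hom ≫ iT = i₁ := by
    rintro T₁ i₁ rfl h
    exact ⟨Iso.refl _, by rw [eq_of_heq h]; exact Category.id_comp _⟩
  obtain ⟨e, he⟩ := key D.T D.i hDT hDi
  refine ⟨D, e, ?_, he⟩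
  have h1 := D.maximalTorus.1
  have h2 := hT.1
  have h3 := hT.2.1
  apply Groth.Agent.Sga3B.Pts.isMonHom_of_points
  intro X x y
  rw [← cancel_mono iT, Category.assoc, he, MonObj.mul_comp, MonObj.mul_comp,
    Category.assoc x e.hom iT, Category.assoc y e.hom iT, he]

/-- Transport of Weyl-invariant characters to a pinning. -/
theorem exists_weyl (D : Red.Pinning G) {T : Over (Spec (CommRingCat.of k))} [GrpObj T]
    (e : D.T ≅ T) [IsMonHom e.hom] (iT : T ⟶ G) (he : e.hom ≫ iT = D.i)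
    (χ : T ⟶ Red.Gm (Spec (CommRingCat.of k))) [IsMonHom χ]
    (hχ : ∀ (n : 𝟙_ (Over (Spec (CommRingCat.of k))) ⟶ G) (φ : T ⟶ T),
      φ ≫ iT = AGF.conjBy n iT → φ ≫ χ = χ) :
    ∃ m : D.M, e.hom ≫ χ = D.split.hom.hom.hom ≫ Red.chi _ m ∧ ∀ a, D.P.coroot a m = 0 := by
  obtain ⟨m, hm⟩ := exists_eq_chi D.toSplitRed (e.hom ≫ χ)
  refine ⟨m, hm, coroot_eq_zero D.toSplitRed m fun n φ hφ => ?_⟩
  rw [← hm]
  have h1 := hχ n (e.inv ≫ φ ≫ e.hom) (by
    rw [Category.assoc, Category.assoc, he, hφ, AGF.conjBy, AGF.conjBy, MonObj.comp_mul,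
      MonObj.comp_mul, GrpObj.comp_inv, ← he, Iso.inv_hom_id_assoc, ← Category.assoc,
      toUnit_unique (e.inv ≫ toUnit D.T) (toUnit T)])
  have h2 := congrArg (fun z => e.hom ≫ z) h1
  simp only [Category.assoc, Iso.hom_inv_id_assoc] at h2
  exact h2

end K501.WeylChar
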